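import Cfsg.Agent.Lib.Recog.SelfThree.Count
import Cfsg.Agent.Lib.Small.Order168Max
import Cfsg.Agent.S4006

/-!
# The structure of groups with a self-centralising element of order three
-/

set_option autoImplicit false
set_option linter.style.haveILetI false
set_option linter.unusedSectionVars false

namespace Cfsg.Lib.Recog.SelfThree

universe u

variable {G : Type u} [Group G] [Finite G]

theorem card_comap_mk (K : Subgroup G) [K.Normal] (U : Subgroup (G ⧸ K)) :
    Nat.card (U.comap (QuotientGroup.mk' K)) = Nat.card K * Nat.card U := by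
  have h1 := Subgroup.card_mul_index (U.comap (QuotientGroup.mk' K))
  rw [Subgroup.index_comap_of_surjective U (QuotientGroup.mk'_surjective K),
    K.card_eq_card_quotient_mul_card_subgroup, ← Subgroup.card_mul_index U] at h1
  have hpos : 0 < U.index := Nat.pos_of_ne_zero Subgroup.index_ne_zero_of_finite
  exact Nat.eq_of_mul_eq_mul_right hpos (h1.trans (by ring))

/-- A normal subgroup of index three or six has order prime to three. -/
theorem SC.not_dvd_of_index {x : G} (h : SC x) {N : Subgroup G} (hidx : 3 ∣ N.index) : ¬ 3 ∣ Nat.card N := fun h3 =>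
  h.three_dvd.2 (Subgroup.card_mul_index N ▸ (mul_dvd_mul h3 hidx : 3 * 3 ∣ Nat.card N * N.index))

/-- The kernel below a simple quotient of order one hundred and sixty eight is trivial. -/
theorem SC.kernel_trivial {x : G} (h : SC x) {K : Subgroup G} [K.Normal] (hK : ¬ 3 ∣ Nat.card K)
    [IsSimpleGroup (G ⧸ K)] (hcard : Nat.card (G ⧸ K) = 168) : K = ⊥ := by
  set y : G ⧸ K := QuotientGroup.mk' K x with hy
  have hsc : SC y := h.quotient hK
  -- invariant subgroups above the kernel
  have lift : ∀ (q : ℕ), q.Prime → ∀ U : Subgroup (G ⧸ K), y ∈ Subgroup.normalizer (U : Set (G ⧸ K)) →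
      ¬ 3 ∣ Nat.card U → q ∣ Nat.card U → ∀ r : ℕ, r.Prime → r ≠ q → ¬ r ∣ Nat.card K := by
    intro q hq U hU hU3 hqU r hr hrq
    haveI := Fact.mk hq
    have hP : InvThree x (U.comap (QuotientGroup.mk' K)) := by
      refine ⟨fun k hk => ?_, ?_⟩
      · show QuotientGroup.mk' K (x * k * x⁻¹) ∈ U
        rw [map_mul, map_mul, map_inv]
        exact (Subgroup.mem_normalizer_iff.1 hU _).1 hk
      · rw [card_comap_mk, Nat.prime_three.dvd_mul]
        exact not_or.2 ⟨hK, hU3⟩
    have hKP : K ≤ U.comap (QuotientGroup.mk' K) := fun k hk => by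
      show QuotientGroup.mk' K k ∈ U
      rw [show QuotientGroup.mk' K k = 1 from (QuotientGroup.eq_one_iff k).2 hk]
      exact U.one_mem
    refine kernel_sylow h hK hP hKP (q := q) ?_ hr hrq
    have h2 : Nat.card K * K.relIndex (U.comap (QuotientGroup.mk' K)) = Nat.card (U.comap (QuotientGroup.mk' K)) := by
      rw [← Subgroup.relIndex_bot_left, Subgroup.relIndex_mul_relIndex _ _ _ bot_le hKP, Subgroup.relIndex_bot_left]
    rw [card_comap_mk] at h2
    rwa [Nat.eq_of_mul_eq_mul_left Nat.card_pos h2]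
  by_contra hne
  obtain ⟨r, hr, hrK⟩ := Nat.exists_prime_and_dvd (fun e => hne (Subgroup.card_eq_one.1 e))
  by_cases hr7 : r = 7
  · -- a four group
    haveI := Fact.mk Nat.prime_three
    obtain ⟨T⟩ : Nonempty (Sylow 2 (G ⧸ K)) := inferInstance
    obtain ⟨V, -, -, -, -, hV, -, -⟩ := Cfsg.Lib.Small.Order168.klein_pair hcard T
    have hN : Nat.card (Subgroup.normalizer (V : Set (G ⧸ K))) = 24 :=
      Cfsg.Lib.Small.Order168.klein_normalizer_card hcard hV
    obtain ⟨⟨z, hz⟩, hzo⟩ := exists_prime_orderOf_dvd_card' (G := Subgroup.normalizer (V : Set (G ⧸ K))) 3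
      (by rw [hN]; norm_num)
    rw [Subgroup.orderOf_mk] at hzo
    obtain ⟨g, hg⟩ := hsc.exists_conj hzo
    set U := V.map (MulAut.conj g⁻¹).toMonoidHom with hU
    have hmem : ∀ v, g⁻¹ * v * g ∈ Subgroup.normalizer (U : Set (G ⧸ K)) ↔
        v ∈ Subgroup.normalizer (V : Set (G ⧸ K)) := by
      have hUmem : ∀ v, v ∈ U ↔ g * v * g⁻¹ ∈ V := fun v => by
        constructor
        · rintro ⟨u, hu, rfl⟩
          show g * (g⁻¹ * u * g⁻¹⁻¹) * g⁻¹ ∈ V
          rwa [show g * (g⁻¹ * u * g⁻¹⁻¹) * g⁻¹ = u by group]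
        · intro hv
          exact ⟨_, hv, by show g⁻¹ * (g * v * g⁻¹) * g⁻¹⁻¹ = v; group⟩
      intro v
      rw [Subgroup.mem_normalizer_iff, Subgroup.mem_normalizer_iff]
      constructor
      · intro hv w
        have := hv (g⁻¹ * w * g)
        simpa [hUmem, mul_assoc] using this
      · intro hv w
        rw [hUmem, hUmem, hv (g * w * g⁻¹)]
        simp [mul_assoc]
    have hyU : y ∈ Subgroup.normalizer (U : Set (G ⧸ K)) := by
      rcases hg with e | e
      · have := (hmem z).2 hz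
        rwa [← e, show g⁻¹ * (g * y * g⁻¹) * g = y by group] at this
      · have := (hmem z).2 hz
        rw [← e, show g⁻¹ * (g * y⁻¹ * g⁻¹) * g = y⁻¹ by group] at this
        simpa using Subgroup.inv_mem _ this
    have hU4 : Nat.card U = 4 := by
      rw [Subgroup.card_map_of_injective (MulAut.conj g⁻¹).injective, hV.card_four]
    exact lift 2 Nat.prime_two U hyU (by rw [hU4]; norm_num) (by rw [hU4]; norm_num) r hr (by omega) hrK
  · -- a Sylow seven subgroup
    haveI : Fact (Nat.Prime 7) := ⟨by norm_num⟩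
    haveI := Fact.mk Nat.prime_three
    have hp : IsPGroup 3 (Subgroup.zpowers y) :=
      IsPGroup.of_card (n := 1) (by rw [Nat.card_zpowers, hsc.1, pow_one])
    have h8 := Cfsg.Lib.Small.Order168.card_seven hcard
    have hmod := hp.card_modEq_card_fixedPoints (Sylow 7 (G ⧸ K))
    rw [h8] at hmod
    obtain ⟨S, hS⟩ : (MulAction.fixedPoints (Subgroup.zpowers y) (Sylow 7 (G ⧸ K))).Nonempty := by
      by_contra he
      rw [Set.not_nonempty_iff_eq_empty.1 he] at hmod
      simp [Nat.ModEq] at hmod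
    have hyS : y ∈ Subgroup.normalizer ((S : Subgroup (G ⧸ K)) : Set (G ⧸ K)) :=
      Sylow.smul_eq_iff_mem_normalizer.1 (hS ⟨y, Subgroup.mem_zpowers y⟩)
    have h7 : Nat.card (S : Subgroup (G ⧸ K)) = 7 := Cfsg.Lib.Small.Order168.sylow_seven_card hcard S
    exact lift 7 (by norm_num) S hyS (by rw [h7]; norm_num) (by rw [h7]) r hr hr7 hrK

/-- The structure theorem. -/
theorem struct_of_sc {G : Type u} [Group G] [Finite G] {x : G} (h : SC x) : Struct G := by
  suffices key : ∀ n : ℕ, ∀ (G : Type u) [Group G] [Finite G], Nat.card G = n → ∀ x : G, SC x → Struct G from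
    key _ G rfl x h
  intro n
  induction n using Nat.strong_induction_on with
  | _ n ih =>
  intro G _ _ hn x h
  subst hn
  by_cases hreal : ∀ g : G, g * x * g⁻¹ ≠ x⁻¹
  · obtain ⟨N, hN, hN3, hidx⟩ := h.complement hreal
    exact Or.inl ⟨N, hN, hN3, Or.inl hidx⟩
  push Not at hreal
  obtain ⟨t, ht⟩ := hreal
  obtain ⟨ht2, ht1⟩ := h.inverter ht
  by_cases hsimple : ∀ K : Subgroup G, K.Normal → K = ⊥ ∨ K = ⊤
  · -- the simple case
    haveI : Nontrivial G := ⟨⟨x, 1, h.ne_one⟩⟩
    haveI hs : IsSimpleGroup G := { eq_bot_or_eq_top_of_normal := hsimple }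
    have C : Ctx G x t := ⟨h, ht, hs, fun H hH hx => ih (Nat.card H) (by
      rcases lt_or_eq_of_le (Subgroup.card_le_card_group H) with hlt | heq
      · exact hlt
      · exact absurd (Subgroup.eq_top_of_card_eq H heq) hH) H rfl _ (h.subtype hx)⟩
    rcases C.card_simple with h60 | h168
    · obtain ⟨e⟩ := Cfsg.Lib.OrderLeHundred.iso_alternating_five h60
      exact Or.inr (Or.inl ⟨⊥, inferInstance, by simp, fun s hs => by simp [Subgroup.mem_bot.1 hs],
        ⟨QuotientGroup.quotientBot.trans e⟩⟩)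
    · exact Or.inr (Or.inr ⟨hs, h168⟩)
  push Not at hsimple
  obtain ⟨K, hK, hKbot, hKtop⟩ := hsimple
  haveI := hK
  by_cases hK3 : 3 ∣ Nat.card K
  · -- the subgroup contains the element of order three
    haveI := Fact.mk Nat.prime_three
    obtain ⟨⟨k, hk⟩, hko⟩ := exists_prime_orderOf_dvd_card' (G := K) 3 hK3
    rw [Subgroup.orderOf_mk] at hko
    have hxK : x ∈ K := by
      obtain ⟨g, hg | hg⟩ := h.exists_conj hko
      · have := hK.conj_mem k hk g⁻¹
        rwa [← hg, show g⁻¹ * (g * x * g⁻¹) * g⁻¹⁻¹ = x by group] at this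
      · have := hK.conj_mem k hk g⁻¹
        rw [← hg, show g⁻¹ * (g * x⁻¹ * g⁻¹) * g⁻¹⁻¹ = x⁻¹ by group] at this
        simpa using K.inv_mem this
    have htfact : ∀ g : G, g ∈ K ∨ t⁻¹ * g ∈ K := by
      intro g
      have hgx : g⁻¹ * x * g⁻¹⁻¹ ∈ K := hK.conj_mem x hxK g⁻¹
      have hord : orderOf (⟨_, hgx⟩ : K) = 3 := by
        rw [Subgroup.orderOf_mk, ← h.1]; exact MulEquiv.orderOf_eq (MulAut.conj g⁻¹) x
      obtain ⟨m, hm⟩ := (h.subtype hxK).exists_conj hord
      rcases hm with e | e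
      · left
        have e' : m.1 * x * m.1⁻¹ = g⁻¹ * x * g⁻¹⁻¹ := congrArg Subtype.val e
        have h1 : g * m.1 ∈ Subgroup.zpowers x := h.2 _ (by
          calc g * m.1 * x = g * (m.1 * x * m.1⁻¹) * m.1 := by group
            _ = x * (g * m.1) := by rw [e']; group)
        have h2 := K.mul_mem ((Subgroup.zpowers_le.2 hxK) h1) (K.inv_mem m.2)
        rwa [mul_inv_cancel_right] at h2
      · right
        have e' : m.1 * x⁻¹ * m.1⁻¹ = g⁻¹ * x * g⁻¹⁻¹ := congrArg Subtype.val e
        have h1 : (g * m.1) * x * (g * m.1)⁻¹ = x⁻¹ := by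
          calc (g * m.1) * x * (g * m.1)⁻¹ = g * (m.1 * x⁻¹ * m.1⁻¹)⁻¹ * g⁻¹ := by group
            _ = x⁻¹ := by rw [e']; group
        rcases h.inverter_cases ht h1 with e1 | e1 | e1
        · rw [show t⁻¹ * g = t⁻¹ * (g * m.1) * m.1⁻¹ by group, e1, inv_mul_cancel, one_mul]
          exact K.inv_mem m.2
        · rw [show t⁻¹ * g = t⁻¹ * (g * m.1) * m.1⁻¹ by group, e1, inv_mul_cancel_left]
          exact K.mul_mem hxK (K.inv_mem m.2)
        · rw [show t⁻¹ * g = t⁻¹ * (g * m.1) * m.1⁻¹ by group, e1, inv_mul_cancel_left]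
          exact K.mul_mem (K.inv_mem hxK) (K.inv_mem m.2)
    have htK : t ∉ K := fun htK => hKtop (eq_top_iff.2 fun g _ => by
      rcases htfact g with hg | hg
      · exact hg
      · simpa using K.mul_mem htK hg)
    have hidx2 : K.index = 2 := by
      rw [Subgroup.index_eq_two_iff']
      refine ⟨t⁻¹, fun g => ?_⟩
      by_cases hg : g ∈ K
      · refine Or.inr ⟨hg, fun hh => htK ?_⟩
        have := K.mul_mem hh (K.inv_mem hg)
        simpa using this
      · exact Or.inl ⟨(htfact g).resolve_left hg, hg⟩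
    have hnr : ∀ g : K, g * (⟨x, hxK⟩ : K) * g⁻¹ ≠ (⟨x, hxK⟩ : K)⁻¹ := by
      intro g e
      rcases h.inverter_cases ht (congrArg Subtype.val e) with e1 | e1 | e1
      · exact htK (e1 ▸ g.2)
      · have := K.mul_mem g.2 (K.inv_mem hxK)
        rw [e1, mul_inv_cancel_right] at this
        exact htK this
      · have := K.mul_mem g.2 hxK
        rw [e1, inv_mul_cancel_right] at this
        exact htK this
    obtain ⟨N0, hN0, hN03, hN0idx⟩ := (h.subtype hxK).complement hnr
    haveI := hN0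
    set N := N0.map K.subtype with hNdef
    have hNcard : Nat.card N = Nat.card N0 := Subgroup.card_map_of_injective (f := K.subtype) K.subtype_injective
    have hNK : N ≤ K := Subgroup.map_subtype_le _
    have hN3 : ¬ 3 ∣ Nat.card N := hNcard ▸ hN03
    have hNrel : N.relIndex K = 3 := by
      rw [Subgroup.relIndex, hNdef, Subgroup.subgroupOf,
        Subgroup.comap_map_eq_self_of_injective K.subtype_injective, hN0idx]
    have hKn : ∀ g ∈ K, ∀ v ∈ N, g * v * g⁻¹ ∈ N := by
      rintro g hg _ ⟨v, hv, rfl⟩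
      exact ⟨⟨g, hg⟩ * v * ⟨g, hg⟩⁻¹, hN0.conj_mem v hv _, rfl⟩
    have hKnorm : K ≤ Subgroup.normalizer (N : Set G) := fun g hg =>
      Subgroup.mem_normalizer_iff.2 fun v => ⟨hKn g hg v, fun hv => by
        have := hKn g⁻¹ (K.inv_mem hg) _ hv
        rwa [show g⁻¹ * (g * v * g⁻¹) * g⁻¹⁻¹ = v by group] at this⟩
    have hNt : N.map (MulAut.conj t).toMonoidHom ≤ N := by
      refine h.small_quot hxK hNK hKnorm (Or.inl hNrel) hN3 ⟨?_, ?_⟩ ?_
      · rintro _ ⟨v, hv, rfl⟩
        refine ⟨x⁻¹ * v * x⁻¹⁻¹, hKn x⁻¹ (K.inv_mem hxK) v hv, ?_⟩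
        show t * (x⁻¹ * v * x⁻¹⁻¹) * t⁻¹ = x * (t * v * t⁻¹) * x⁻¹
        have h2 : t * x⁻¹ * t⁻¹ = x := by
          rw [show t * x⁻¹ * t⁻¹ = (t * x * t⁻¹)⁻¹ by group, ht, inv_inv]
        calc t * (x⁻¹ * v * x⁻¹⁻¹) * t⁻¹ = (t * x⁻¹ * t⁻¹) * (t * v * t⁻¹) * (t * x⁻¹ * t⁻¹)⁻¹ := by group
          _ = x * (t * v * t⁻¹) * x⁻¹ := by rw [h2]
      · rwa [Subgroup.card_map_of_injective (MulAut.conj t).injective]
      · rintro _ ⟨v, hv, rfl⟩
        exact hK.conj_mem v (hNK hv) t
    have htn : ∀ v ∈ N, t * v * t⁻¹ ∈ N := fun v hv => hNt ⟨v, hv, rfl⟩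
    have hNn : N.Normal := ⟨fun v hv g => by
      rcases htfact g with hg | hg
      · exact hKn g hg v hv
      · rw [show g * v * g⁻¹ = t * ((t⁻¹ * g) * v * (t⁻¹ * g)⁻¹) * t⁻¹ by group]
        exact htn _ (hKn _ hg v hv)⟩
    refine Or.inl ⟨N, hNn, hN3, Or.inr ?_⟩
    rw [← Subgroup.relIndex_mul_index hNK, hNrel, hidx2]
  · -- pass to the quotient
    have hlt : Nat.card (G ⧸ K) < Nat.card G := by
      rw [K.card_eq_card_quotient_mul_card_subgroup]
      refine lt_mul_of_one_lt_right Nat.card_pos ?_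
      exact Subgroup.one_lt_card_iff_ne_bot K |>.2 hKbot
    rcases ih _ hlt (G ⧸ K) rfl _ (h.quotient hK3) with ⟨N, hN, hN3, hidx⟩ | ⟨E, hE, hE3, hE2, ⟨e⟩⟩ | ⟨hs, hcard⟩
    · haveI := hN
      have hi : (N.comap (QuotientGroup.mk' K)).index = N.index :=
        Subgroup.index_comap_of_surjective N (QuotientGroup.mk'_surjective K)
      exact Or.inl ⟨_, hN.comap _, h.not_dvd_of_index (by rcases hidx with e | e <;> rw [hi, e]; norm_num),
        by rw [hi]; exact hidx⟩
    · haveI := hE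
      set π := e.toMonoidHom.comp ((QuotientGroup.mk' E).comp (QuotientGroup.mk' K)) with hπ
      have hsurj : Function.Surjective π :=
        e.surjective.comp ((QuotientGroup.mk'_surjective E).comp (QuotientGroup.mk'_surjective K))
      have e' : G ⧸ π.ker ≃* A5 := QuotientGroup.quotientKerEquivOfSurjective π hsurj
      have hi : π.ker.index = 60 := by
        rw [Subgroup.index, Nat.card_congr e'.toEquiv, nat_card_alternatingGroup, Nat.card_fin]
        rfl
      have h3 : ¬ 3 ∣ Nat.card π.ker := h.not_dvd_of_index (by rw [hi]; norm_num)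
      exact Or.inr (Or.inl ⟨π.ker, inferInstance, h3, (ker_elementary h h3 e').2, ⟨e'⟩⟩)
    · haveI := hs
      exact absurd (h.kernel_trivial hK3 hcard) hKbot

end Cfsg.Lib.Recog.SelfThree
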