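import Cfsg.Agent.Lib.Thompson.FixedPointFree
import Cfsg.Agent.Lib.PGroup.TwoEngel

/-!
# A self-centralising element of order three: elementary facts
-/

set_option autoImplicit false
set_option linter.style.haveILetI false
set_option linter.unusedSectionVars false

namespace Cfsg.Lib.Recog.SelfThree

variable {G : Type*} [Group G]

/-- An element of order three whose centraliser is the subgroup it generates. -/
def SC (x : G) : Prop := orderOf x = 3 ∧ ∀ g : G, g * x = x * g → g ∈ Subgroup.zpowers x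

/-- The subgroup `K` is invariant under `x` and has order prime to three. -/
def InvThree (x : G) (K : Subgroup G) : Prop := (∀ k ∈ K, x * k * x⁻¹ ∈ K) ∧ ¬ 3 ∣ Nat.card K

theorem SC.pow_three {x : G} (h : SC x) : x ^ 3 = 1 := h.1 ▸ pow_orderOf_eq_one x

theorem SC.ne_one {x : G} (h : SC x) : x ≠ 1 := fun e => by
  have := h.1; rw [e, orderOf_one] at this; norm_num at this

theorem SC.inv {x : G} (h : SC x) : SC x⁻¹ := by
  refine ⟨by rw [orderOf_inv, h.1], fun g hg => ?_⟩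
  rw [Subgroup.zpowers_inv]
  refine h.2 g ?_
  have : Commute g x⁻¹ := hg
  simpa using this.inv_right.eq

theorem SC.conj {x : G} (h : SC x) (c : G) : SC (c * x * c⁻¹) := by
  refine ⟨by rw [← h.1]; exact MulEquiv.orderOf_eq (MulAut.conj c) x, fun g hg => ?_⟩
  obtain ⟨i, hi⟩ := h.2 (c⁻¹ * g * c) (by
    calc c⁻¹ * g * c * x = c⁻¹ * (g * (c * x * c⁻¹)) * c := by group
      _ = c⁻¹ * ((c * x * c⁻¹) * g) * c := by rw [hg]
      _ = x * (c⁻¹ * g * c) := by group)
  exact ⟨i, by show (c * x * c⁻¹) ^ i = g; rw [conj_zpow, show x ^ i = c⁻¹ * g * c from hi]; group⟩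

theorem SC.mem_cases [Finite G] {x : G} (h : SC x) {g : G} (hg : g ∈ Subgroup.zpowers x) :
    g = 1 ∨ g = x ∨ g = x⁻¹ := by
  obtain ⟨i, rfl⟩ := hg
  show x ^ i = 1 ∨ x ^ i = x ∨ x ^ i = x⁻¹
  rw [← zpow_mod_orderOf, h.1]
  have h1 : i % (3 : ℕ) = 0 ∨ i % (3 : ℕ) = 1 ∨ i % (3 : ℕ) = 2 := by omega
  rcases h1 with e | e | e <;> rw [e]
  · exact Or.inl (zpow_zero x)
  · exact Or.inr (Or.inl (zpow_one x))
  · refine Or.inr (Or.inr (eq_inv_of_mul_eq_one_left ?_))
    rw [← h.pow_three]; group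

theorem SC.fix_trivial [Finite G] {x : G} (h : SC x) {K : Subgroup G} (hK : ¬ 3 ∣ Nat.card K) {k : G}
    (hk : k ∈ K) (hc : x * k * x⁻¹ = k) : k = 1 := by
  have h1 : orderOf k ∣ 3 := by
    rw [← h.1, ← Nat.card_zpowers x]
    exact Subgroup.orderOf_dvd_natCard _ (h.2 k (mul_inv_eq_iff_eq_mul.1 hc).symm)
  rcases (Nat.dvd_prime Nat.prime_three).1 h1 with e | e
  · exact orderOf_eq_one_iff.1 e
  · exact absurd (e ▸ Subgroup.orderOf_dvd_natCard K hk) hK

theorem InvThree.inv [Finite G] {x : G} {K : Subgroup G} (hK : InvThree x K) : InvThree x⁻¹ K := by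
  refine ⟨fun k hk => ?_, hK.2⟩
  have hle : K.map (MulAut.conj x).toMonoidHom ≤ K := by
    rintro _ ⟨v, hv, rfl⟩; exact hK.1 v hv
  have heq := Subgroup.eq_of_le_of_card_ge hle
    (le_of_eq (Subgroup.card_map_of_injective (MulAut.conj x).injective).symm)
  obtain ⟨v, hv, hvk⟩ := heq.symm.le hk
  rw [← hvk]
  show x⁻¹ * (x * v * x⁻¹) * x⁻¹⁻¹ ∈ K
  rw [show x⁻¹ * (x * v * x⁻¹) * x⁻¹⁻¹ = v by group]
  exact hv

theorem InvThree.mem_normalizer [Finite G] {x : G} {K : Subgroup G} (hK : InvThree x K) :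
    x ∈ Subgroup.normalizer (K : Set G) := by
  refine Subgroup.mem_normalizer_iff.2 fun k => ⟨fun hk => hK.1 k hk, fun hk => ?_⟩
  have := hK.inv.1 _ hk
  rwa [show x⁻¹ * (x * k * x⁻¹) * x⁻¹⁻¹ = k by group] at this

/-- The identities of a fixed-point-free action of order three. -/
theorem SC.identities [Finite G] {x : G} (h : SC x) {K : Subgroup G} (hK : InvThree x K) {k : G} (hk : k ∈ K) :
    k * (x * k * x⁻¹) * (x * (x * k * x⁻¹) * x⁻¹) = 1 ∧ Commute k (x * k * x⁻¹) := by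
  have hid : ∀ {v : G}, v ∈ K → v * (x * v * x⁻¹) * (x * (x * v * x⁻¹) * x⁻¹) = 1 := by
    intro v hv
    let φ : K →* K :=
      { toFun := fun u => ⟨x * u * x⁻¹, hK.1 u u.2⟩
        map_one' := Subtype.ext (by simp)
        map_mul' := fun a b => Subtype.ext (by simp [mul_assoc]) }
    have hφ : MonoidHom.FixedPointFree φ := fun u hu =>
      Subtype.ext (h.fix_trivial hK.2 u.2 (congrArg Subtype.val hu))
    have h3 : (⇑φ)^[3] = id := by
      funext u
      apply Subtype.ext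
      show x * (x * (x * u * x⁻¹) * x⁻¹) * x⁻¹ = (u : G)
      calc _ = (x * x * x) * u * (x * x * x)⁻¹ := by group
        _ = _ := by rw [← pow_two, ← pow_succ, h.pow_three]; group
    have h' := congrArg Subtype.val (show _ = (1 : K) from hφ.prod_pow_eq_one h3 ⟨v, hv⟩)
    simp [List.range_succ] at h'
    simpa [φ, mul_assoc] using h'
  refine ⟨hid hk, ?_⟩
  have h1 := hid hk
  have h2 := hid (K.inv_mem hk)
  set a := x * k * x⁻¹
  set b := x * a * x⁻¹
  rw [show x * k⁻¹ * x⁻¹ = a⁻¹ by simp only [a]; group, show x * a⁻¹ * x⁻¹ = b⁻¹ by simp only [b]; group] at h2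
  have h3 : b * a * k = 1 := by
    rw [← inv_inj, inv_one]; simpa [mul_assoc] using h2
  show k * a = a * k
  calc k * a = b⁻¹ := eq_inv_of_mul_eq_one_left h1
    _ = a * k := (inv_eq_of_mul_eq_one_right (by rw [← mul_assoc]; exact h3))

theorem SC.nilpotent [Finite G] {x : G} (h : SC x) {K : Subgroup G} (hK : InvThree x K) : Group.IsNilpotent K := by
  let φ : K ≃* K :=
    { toFun := fun k => ⟨x * k * x⁻¹, hK.1 k k.2⟩
      invFun := fun k => ⟨x⁻¹ * k * x⁻¹⁻¹, hK.inv.1 k k.2⟩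
      left_inv := fun k => Subtype.ext (by group)
      right_inv := fun k => Subtype.ext (by group)
      map_mul' := fun a b => Subtype.ext (by simp [mul_assoc]) }
  refine Cfsg.Lib.Thompson.isNilpotent_of_fpf Nat.prime_three φ
    (fun k hk => Subtype.ext (h.fix_trivial hK.2 k.2 (congrArg Subtype.val hk))) ?_
  funext k
  apply Subtype.ext
  show x * (x * (x * k * x⁻¹) * x⁻¹) * x⁻¹ = (k : G)
  calc _ = (x * x * x) * k * (x * x * x)⁻¹ := by group
    _ = _ := by rw [← pow_two, ← pow_succ, h.pow_three]; group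

theorem SC.card_mod [Finite G] {x : G} (h : SC x) {K : Subgroup G} (hK : InvThree x K) :
    Nat.card K % 3 = 1 := by
  haveI := Fact.mk Nat.prime_three
  have hle : Subgroup.zpowers x ≤ Subgroup.normalizer (K : Set G) :=
    Subgroup.zpowers_le.2 hK.mem_normalizer
  let φ : Subgroup.zpowers x →* MulAut K := K.normalizerMonoidHom.comp (Subgroup.inclusion hle)
  letI : MulAction (Subgroup.zpowers x) K := MulAction.compHom K φ
  have hp : IsPGroup 3 (Subgroup.zpowers x) := IsPGroup.of_card (n := 1) (by rw [Nat.card_zpowers, h.1, pow_one])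
  have hmod := hp.card_modEq_card_fixedPoints K
  have hfix : MulAction.fixedPoints (Subgroup.zpowers x) K = {1} := by
    ext k
    constructor
    · intro hk
      exact Subtype.ext (h.fix_trivial hK.2 k.2 (congrArg Subtype.val (hk ⟨x, Subgroup.mem_zpowers x⟩)))
    · rintro rfl g
      exact map_one (φ g)
  rw [hfix] at hmod
  simpa [Nat.ModEq] using hmod

/-- Every element of a coset `K x` is conjugate to `x` under `K`. -/
theorem SC.conj_surj [Finite G] {x : G} (h : SC x) {K : Subgroup G} (hK : InvThree x K) {g : G} (hg : g ∈ K) :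
    ∃ n ∈ K, n * x * n⁻¹ = g * x := by
  haveI : Finite K := inferInstance
  let F : K → K := fun n => n * ⟨x * n⁻¹ * x⁻¹, hK.1 _ (K.inv_mem n.2)⟩
  have hinj : Function.Injective F := by
    intro m n hmn
    have e : m.1 * (x * m.1⁻¹ * x⁻¹) = n.1 * (x * n.1⁻¹ * x⁻¹) := congrArg Subtype.val hmn
    have hfix : x * (n.1⁻¹ * m.1) * x⁻¹ = n.1⁻¹ * m.1 := by
      calc x * (n.1⁻¹ * m.1) * x⁻¹ = (x * n.1⁻¹ * x⁻¹) * (x * m.1⁻¹ * x⁻¹)⁻¹ := by group
        _ = n.1⁻¹ * (n.1 * (x * n.1⁻¹ * x⁻¹)) * (x * m.1⁻¹ * x⁻¹)⁻¹ := by group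
        _ = n.1⁻¹ * (m.1 * (x * m.1⁻¹ * x⁻¹)) * (x * m.1⁻¹ * x⁻¹)⁻¹ := by rw [e]
        _ = _ := by group
    exact Subtype.ext (inv_mul_eq_one.1 (h.fix_trivial hK.2 (K.mul_mem (K.inv_mem n.2) m.2) hfix)).symm
  obtain ⟨n, hn⟩ := Finite.surjective_of_injective hinj ⟨g, hg⟩
  refine ⟨n.1, n.2, ?_⟩
  have e : n.1 * (x * n.1⁻¹ * x⁻¹) = g := congrArg Subtype.val hn
  rw [← e]; group

/-- Invariant subgroups of order prime to three commute with the conjugates of their elements. -/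
theorem SC.conjCommute [Finite G] {x : G} (h : SC x) {K : Subgroup G} (hK : InvThree x K) :
    Cfsg.Lib.PGroup.TwoEngel.ConjCommute K := by
  have key : ∀ {y : G}, SC y → InvThree y K → ∀ a ∈ K, ∀ g ∈ K, Commute a (g * (y * a * y⁻¹) * g⁻¹) := by
    intro y hy hKy a ha g hg
    obtain ⟨n, hn, e⟩ := hy.conj_surj hKy hg
    have hy' : SC (g * y) := e ▸ hy.conj n
    have hK' : InvThree (g * y) K := ⟨fun k hk => by
      rw [show g * y * k * (g * y)⁻¹ = g * (y * k * y⁻¹) * g⁻¹ by group]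
      exact K.mul_mem (K.mul_mem hg (hKy.1 k hk)) (K.inv_mem hg), hK.2⟩
    have := (hy'.identities hK' ha).2
    rwa [show g * y * a * (g * y)⁻¹ = g * (y * a * y⁻¹) * g⁻¹ by group] at this
  intro a g
  have h1 := key h hK a.1 a.2 g.1 g.2
  have h2 := key h.inv hK.inv a.1 a.2 g.1 g.2
  obtain ⟨h3, -⟩ := h.identities hK a.2
  have h4 : x * (x * a.1 * x⁻¹) * x⁻¹ = x⁻¹ * a.1 * x⁻¹⁻¹ := by
    have h33 : x * x * x = 1 := by rw [← pow_two, ← pow_succ, h.pow_three]
    calc x * (x * a.1 * x⁻¹) * x⁻¹ = x⁻¹ * (x * x * x) * a.1 * (x * x * x)⁻¹ * x⁻¹⁻¹ := by group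
      _ = _ := by rw [h33]; group
  rw [h4] at h3
  have h5 : g.1 * a.1 * g.1⁻¹ = (g.1 * (x * a.1 * x⁻¹) * g.1⁻¹ * (g.1 * (x⁻¹ * a.1 * x⁻¹⁻¹) * g.1⁻¹))⁻¹ := by
    rw [mul_assoc] at h3
    conv_lhs => rw [eq_inv_of_mul_eq_one_left h3]
    group
  show Commute a (g * a * g⁻¹)
  apply Subtype.ext
  show a.1 * (g.1 * a.1 * g.1⁻¹) = g.1 * a.1 * g.1⁻¹ * a.1
  rw [h5]
  exact ((h1.mul_right h2).inv_right).eq

/-- An invariant subgroup of order prime to three has class at most two. -/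
theorem SC.class_two [Finite G] {x : G} (h : SC x) {K : Subgroup G} (hK : InvThree x K) {a b c : G}
    (ha : a ∈ K) (hb : b ∈ K) (hc : c ∈ K) : Commute (a * b * a⁻¹ * b⁻¹) c := by
  have h3 : ∀ g : K, g ^ 3 = 1 → g = 1 := by
    intro g hg
    rcases (Nat.dvd_prime Nat.prime_three).1 (orderOf_dvd_of_pow_eq_one hg) with e | e
    · exact orderOf_eq_one_iff.1 e
    · exact absurd (e ▸ orderOf_dvd_natCard g) hK.2
  have hmem := Cfsg.Lib.PGroup.TwoEngel.commutator_le_center (h.conjCommute hK) h3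
    (Subgroup.commutator_mem_commutator (Subgroup.mem_top (⟨a, ha⟩ : K)) (Subgroup.mem_top ⟨b, hb⟩))
  have := congrArg Subtype.val (Subgroup.mem_center_iff.1 hmem ⟨c, hc⟩)
  exact this.symm

theorem SC.sylow_three [Finite G] {x : G} (h : SC x) :
    ∀ P : Sylow 3 G, x ∈ (P : Subgroup G) → (P : Subgroup G) = Subgroup.zpowers x := by
  haveI := Fact.mk Nat.prime_three
  intro P hxP
  haveI : Nontrivial (P : Subgroup G) := ⟨⟨⟨x, hxP⟩, 1, fun e => h.ne_one (congrArg Subtype.val e)⟩⟩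
  haveI := P.2.center_nontrivial
  obtain ⟨⟨z, hz⟩, hz1⟩ := exists_ne (1 : Subgroup.center (P : Subgroup G))
  have hzx : z.1 * x = x * z.1 := (congrArg Subtype.val (Subgroup.mem_center_iff.1 hz ⟨x, hxP⟩)).symm
  have hz1' : z.1 ≠ 1 := fun e => hz1 (Subtype.ext (Subtype.ext e))
  refine le_antisymm (fun p hp => h.2 p ?_) (Subgroup.zpowers_le.2 hxP)
  have hcm : Commute p z.1 := congrArg Subtype.val (Subgroup.mem_center_iff.1 hz ⟨p, hp⟩)
  rcases h.mem_cases (h.2 _ hzx) with e | e | e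
  · exact absurd e hz1'
  · rw [e] at hcm; exact hcm.eq
  · rw [e] at hcm; simpa using hcm.inv_right.eq

theorem SC.three_dvd [Finite G] {x : G} (h : SC x) : 3 ∣ Nat.card G ∧ ¬ 9 ∣ Nat.card G := by
  haveI := Fact.mk Nat.prime_three
  refine ⟨h.1 ▸ orderOf_dvd_natCard x, fun h9 => ?_⟩
  obtain ⟨P, hP⟩ := (IsPGroup.of_card (n := 1) (show Nat.card (Subgroup.zpowers x) = 3 ^ 1 by
    rw [Nat.card_zpowers, h.1, pow_one])).exists_le_sylow
  have hc : Nat.card (P : Subgroup G) = 3 := by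
    rw [h.sylow_three P (hP (Subgroup.mem_zpowers x)), Nat.card_zpowers, h.1]
  have := P.pow_dvd_card_of_pow_dvd_card (n := 2) (by norm_num; exact h9)
  rw [hc] at this
  norm_num at this

theorem SC.exists_conj [Finite G] {x : G} (h : SC x) {y : G} (hy : orderOf y = 3) :
    ∃ g : G, g * x * g⁻¹ = y ∨ g * x⁻¹ * g⁻¹ = y := by
  haveI := Fact.mk Nat.prime_three
  obtain ⟨P, hP⟩ := (IsPGroup.of_card (n := 1) (show Nat.card (Subgroup.zpowers x) = 3 ^ 1 by
    rw [Nat.card_zpowers, h.1, pow_one])).exists_le_sylow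
  obtain ⟨Q, hQ⟩ := (IsPGroup.of_card (n := 1) (show Nat.card (Subgroup.zpowers y) = 3 ^ 1 by
    rw [Nat.card_zpowers, hy, pow_one])).exists_le_sylow
  obtain ⟨g, hg⟩ := MulAction.exists_smul_eq G P Q
  have hmem : y ∈ (g • P : Sylow 3 G).1 := hg.symm ▸ hQ (Subgroup.mem_zpowers y)
  rw [Sylow.smul_def, Sylow.pointwise_smul_def] at hmem
  obtain ⟨v, hv, hvy⟩ := hmem
  rw [h.sylow_three P (hP (Subgroup.mem_zpowers x))] at hv
  have hvy' : g * v * g⁻¹ = y := hvy
  rcases h.mem_cases hv with e | e | e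
  · exfalso; rw [e, mul_one, mul_inv_cancel] at hvy'
    rw [← hvy', orderOf_one] at hy; norm_num at hy
  · exact ⟨g, Or.inl (e ▸ hvy')⟩
  · exact ⟨g, Or.inr (e ▸ hvy')⟩

/-- An invariant subgroup of order prime to three lies in a normal subgroup of index three or six. -/
theorem SC.small_quot [Finite G] {x : G} (h : SC x) {H N K : Subgroup G} (hxH : x ∈ H) (hNH : N ≤ H)
    (hHN : H ≤ Subgroup.normalizer (N : Set G)) (hidx : N.relIndex H = 3 ∨ N.relIndex H = 6)
    (hN3 : ¬ 3 ∣ Nat.card N) (hK : InvThree x K) (hKH : K ≤ H) : K ≤ N := by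
  haveI : (N.subgroupOf H).Normal := (Subgroup.normal_subgroupOf_iff_le_normalizer hNH).2 hHN
  have hNinv : InvThree x N :=
    ⟨fun n hn => (Subgroup.mem_normalizer_iff.1 (hHN hxH) n).1 hn, hN3⟩
  set π := QuotientGroup.mk' (N.subgroupOf H)
  set Kb := (K.subgroupOf H).map π
  have hKb3 : ¬ 3 ∣ Nat.card Kb := fun h3 => hK.2 (h3.trans ((Subgroup.card_map_dvd (H := K.subgroupOf H) π).trans
    (Nat.card_congr (Subgroup.subgroupOfEquivOfLe hKH).toEquiv).dvd))
  have hKb6 : Nat.card Kb ∣ 6 := by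
    refine (Subgroup.card_subgroup_dvd_card Kb).trans ?_
    rw [← Subgroup.index, ← Subgroup.relIndex]
    rcases hidx with e | e <;> rw [e]
    norm_num
  have hKb2 : Nat.card Kb ≤ 2 := by
    have := Nat.le_of_dvd (by norm_num) hKb6
    interval_cases hc : Nat.card Kb <;> simp_all
  intro k hk
  by_contra hkN
  set kb := π ⟨k, hKH hk⟩
  set kb' := π ⟨x * k * x⁻¹, hKH (hK.1 k hk)⟩
  have hkb : kb ≠ 1 := fun e => hkN ((QuotientGroup.eq_one_iff (N := N.subgroupOf H) ⟨k, hKH hk⟩).1 e)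
  have hkb' : kb' ≠ 1 := fun e => hkN (by
    have h0 : x * k * x⁻¹ ∈ N :=
      (QuotientGroup.eq_one_iff (N := N.subgroupOf H) ⟨x * k * x⁻¹, hKH (hK.1 k hk)⟩).1 e
    have h1 := hNinv.inv.1 _ h0
    rwa [show x⁻¹ * (x * k * x⁻¹) * x⁻¹⁻¹ = k by group] at h1)
  have heq : kb = kb' := by
    by_contra hne
    haveI := Fintype.ofFinite Kb
    have m1 : kb ∈ Kb := ⟨⟨k, hKH hk⟩, hk, rfl⟩
    have m2 : kb' ∈ Kb := ⟨⟨x * k * x⁻¹, hKH (hK.1 k hk)⟩, hK.1 k hk, rfl⟩
    classical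
    have hsub : ({1, ⟨kb, m1⟩, ⟨kb', m2⟩} : Finset Kb).card = 3 := by
      rw [Finset.card_insert_of_notMem, Finset.card_insert_of_notMem, Finset.card_singleton]
      · simpa using hne
      · simp only [Finset.mem_insert, Finset.mem_singleton, not_or]
        exact ⟨fun e => hkb (congrArg Subtype.val e).symm, fun e => hkb' (congrArg Subtype.val e).symm⟩
    have := Finset.card_le_univ ({1, ⟨kb, m1⟩, ⟨kb', m2⟩} : Finset Kb)
    rw [hsub, ← Nat.card_eq_fintype_card] at this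
    omega
  have hw : k⁻¹ * (x * k * x⁻¹) ∈ N := (QuotientGroup.eq (s := N.subgroupOf H)).1 heq
  obtain ⟨n, hn, e⟩ := h.conj_surj hNinv hw
  -- `k * n` is fixed
  have hfix : x * (k * n) * x⁻¹ = k * n := by
    have e' : n * x * n⁻¹ * x⁻¹ = k⁻¹ * (x * k * x⁻¹) := by rw [e]; group
    calc x * (k * n) * x⁻¹ = k * (k⁻¹ * (x * k * x⁻¹)) * (x * n * x⁻¹) := by group
      _ = k * n := by rw [← e']; group
  rcases h.mem_cases (h.2 _ (mul_inv_eq_iff_eq_mul.1 hfix).symm) with e1 | e1 | e1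
  · exact hkN (by rw [eq_inv_of_mul_eq_one_left e1]; exact N.inv_mem hn)
  all_goals
    have hxN : x ∉ N := fun hx => hN3 (h.1 ▸ Subgroup.orderOf_dvd_natCard N hx)
    have hπ : π ⟨k * n, H.mul_mem (hKH hk) (hNH hn)⟩ = kb := by
      show π (⟨k, hKH hk⟩ * ⟨n, hNH hn⟩) = kb
      rw [map_mul, show π ⟨n, hNH hn⟩ = 1 from (QuotientGroup.eq_one_iff (N := N.subgroupOf H) (⟨n, hNH hn⟩ : H)).2 hn, mul_one]
    have h3 : (k * n) ^ 3 = 1 := by rw [e1]; first | exact h.pow_three | rw [inv_pow, h.pow_three, inv_one]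
    have hkb3 : orderOf kb ∣ 3 := orderOf_dvd_of_pow_eq_one (by
      rw [← hπ, ← map_pow, ← map_one π]; exact congrArg π (Subtype.ext h3))
    have hkbd : orderOf kb ∣ Nat.card Kb := Subgroup.orderOf_dvd_natCard Kb ⟨⟨k, hKH hk⟩, hk, rfl⟩
    rcases (Nat.dvd_prime Nat.prime_three).1 hkb3 with e2 | e2
    · exact hkb (orderOf_eq_one_iff.1 e2)
    · exact hKb3 (e2 ▸ hkbd)

theorem SC.subtype [Finite G] {x : G} (h : SC x) {H : Subgroup G} (hx : x ∈ H) : SC (⟨x, hx⟩ : H) := by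
  refine ⟨(Subgroup.orderOf_mk x hx).trans h.1, fun g hg => ?_⟩
  obtain ⟨i, hi⟩ := h.2 g.1 (congrArg Subtype.val hg)
  exact ⟨i, Subtype.ext (by simpa using hi)⟩

theorem SC.quotient [Finite G] {x : G} (h : SC x) {K : Subgroup G} [K.Normal] (hK : ¬ 3 ∣ Nat.card K) :
    SC (QuotientGroup.mk x : G ⧸ K) := by
  have hinv : InvThree x K := ⟨fun k hk => Subgroup.Normal.conj_mem inferInstance k hk x, hK⟩
  refine ⟨?_, fun g hg => ?_⟩
  · refine orderOf_eq_prime (hp := ⟨Nat.prime_three⟩) ?_ fun e => ?_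
    · rw [← QuotientGroup.mk_pow, h.pow_three, QuotientGroup.mk_one]
    · exact hK (h.1 ▸ Subgroup.orderOf_dvd_natCard K ((QuotientGroup.eq_one_iff x).1 e))
  · induction g using QuotientGroup.induction_on with | _ g => ?_
    have hw : g * x * g⁻¹ * x⁻¹ ∈ K := by
      rw [← QuotientGroup.eq_one_iff]
      simp only [QuotientGroup.mk_mul, QuotientGroup.mk_inv, hg]
      group
    obtain ⟨n, hn, e⟩ := h.conj_surj hinv hw
    have e' : n * x * n⁻¹ = g * x * g⁻¹ := by rw [e]; group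
    obtain ⟨i, hi⟩ := h.2 (n⁻¹ * g) (by
      calc n⁻¹ * g * x = n⁻¹ * (g * x * g⁻¹) * g := by group
        _ = x * (n⁻¹ * g) := by rw [← e']; group)
    refine ⟨i, ?_⟩
    show (QuotientGroup.mk x : G ⧸ K) ^ i = QuotientGroup.mk g
    rw [← QuotientGroup.mk_zpow, show x ^ i = n⁻¹ * g from hi, QuotientGroup.mk_mul,
      (QuotientGroup.eq_one_iff n⁻¹).2 (K.inv_mem hn), one_mul]

/-- An element inverting `x`. -/
theorem SC.inverter [Finite G] {x : G} (h : SC x) {t : G} (ht : t * x * t⁻¹ = x⁻¹) : t ^ 2 = 1 ∧ t ≠ 1 := by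
  have hne : x⁻¹ ≠ x := fun e => h.ne_one (by
    have e2 : x * x = 1 := by nth_rewrite 1 [← e]; exact inv_mul_cancel x
    calc x = x ^ 3 * (x * x)⁻¹ := by group
      _ = 1 := by rw [h.pow_three, e2, inv_one, mul_one])
  refine ⟨?_, fun e => hne (by rw [← ht, e]; group)⟩
  have hc : t ^ 2 * x = x * t ^ 2 := by
    have h1 : t * (t * x * t⁻¹) * t⁻¹ = x := by
      rw [ht, show t * x⁻¹ * t⁻¹ = (t * x * t⁻¹)⁻¹ by group, ht, inv_inv]
    calc t ^ 2 * x = (t * (t * x * t⁻¹) * t⁻¹) * t ^ 2 := by rw [pow_two]; group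
      _ = x * t ^ 2 := by rw [h1]
  have hfix : t * t ^ 2 * t⁻¹ = t ^ 2 := by group
  rcases h.mem_cases (h.2 _ hc) with e | e | e
  · exact e
  · rw [e, ht] at hfix; exact absurd hfix hne
  · rw [e, show t * x⁻¹ * t⁻¹ = (t * x * t⁻¹)⁻¹ by group, ht, inv_inv] at hfix
    exact absurd hfix.symm hne

theorem SC.inverter_cases [Finite G] {x : G} (h : SC x) {t g : G} (ht : t * x * t⁻¹ = x⁻¹)
    (hg : g * x * g⁻¹ = x⁻¹) : g = t ∨ g = t * x ∨ g = t * x⁻¹ := by
  have hc : t⁻¹ * g * x = x * (t⁻¹ * g) := by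
    have h1 : x = t⁻¹ * x⁻¹ * t := by rw [← ht]; group
    calc t⁻¹ * g * x = t⁻¹ * (g * x * g⁻¹) * g := by group
      _ = t⁻¹ * x⁻¹ * t * (t⁻¹ * g) := by rw [hg]; group
      _ = _ := by rw [← h1]
  rcases h.mem_cases (h.2 _ hc) with e | e | e <;> rw [inv_mul_eq_iff_eq_mul] at e
  · exact Or.inl (by rw [e, mul_one])
  · exact Or.inr (Or.inl e)
  · exact Or.inr (Or.inr e)

/-- Without an element inverting `x` there is a normal complement to `x`. -/
theorem SC.complement [Finite G] {x : G} (h : SC x) (hreal : ∀ g : G, g * x * g⁻¹ ≠ x⁻¹) :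
    ∃ N : Subgroup G, N.Normal ∧ ¬ 3 ∣ Nat.card N ∧ N.index = 3 := by
  haveI := Fact.mk Nat.prime_three
  obtain ⟨P, hP⟩ := (IsPGroup.of_card (n := 1) (show Nat.card (Subgroup.zpowers x) = 3 ^ 1 by
    rw [Nat.card_zpowers, h.1, pow_one])).exists_le_sylow
  have hPx := h.sylow_three P (hP (Subgroup.mem_zpowers x))
  have hNC : Subgroup.normalizer ((P : Subgroup G) : Set G) ≤ Subgroup.centralizer ((P : Subgroup G) : Set G) := by
    intro g hg
    rw [hPx] at hg ⊢
    have hgx := (Subgroup.mem_normalizer_iff.1 hg x).1 (Subgroup.mem_zpowers x)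
    have hc : g * x = x * g := by
      rcases h.mem_cases hgx with e | e | e
      · exact absurd (conj_eq_one_iff.1 e) h.ne_one
      · exact mul_inv_eq_iff_eq_mul.1 e
      · exact absurd e (hreal g)
    refine Subgroup.mem_centralizer_iff.2 fun v hv => ?_
    obtain ⟨i, rfl⟩ := hv
    exact ((show Commute g x from hc).zpow_right i).eq.symm
  refine ⟨(MonoidHom.transferSylow P hNC).ker, inferInstance,
    MonoidHom.not_dvd_card_ker_transferSylow P hNC, ?_⟩
  rw [(Subgroup.IsComplement'.symm (MonoidHom.ker_transferSylow_isComplement' P hNC)).index_eq_card, hPx,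
    Nat.card_zpowers, h.1]

end Cfsg.Lib.Recog.SelfThree
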