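import Cfsg.Agent.Lib.Recog.SelfThree.Basic
import Cfsg.Agent.Lib.Char.Galois
import Cfsg.Agent.Lib.Char.Correspondence

/-!
# The character relations of a simple group with a self-centralising element of order three
-/

set_option autoImplicit false
set_option linter.style.haveILetI false
set_option linter.unusedSectionVars false

namespace Cfsg.Lib.Recog.SelfThree

open Cfsg Cfsg.Lib.Char
open scoped ComplexConjugate

universe u

/-- The elements inverting `x` are conjugate. -/
theorem inverter_conj {G : Type u} [Group G] [Finite G] {x t g : G} (h : SC x) (ht : t * x * t⁻¹ = x⁻¹)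
    (hg : g * x * g⁻¹ = x⁻¹) : IsConj t g := by
  have h1 : t * x = x⁻¹ * t := by rw [← ht]; group
  rcases h.inverter_cases ht hg with e | e | e <;> rw [e]
  · refine isConj_iff.2 ⟨x, ?_⟩
    have h2 : t * x⁻¹ = x * t := by
      have e' : t * x⁻¹ * t⁻¹ = x := by rw [show t * x⁻¹ * t⁻¹ = (t * x * t⁻¹)⁻¹ by group, ht, inv_inv]
      exact mul_inv_eq_iff_eq_mul.1 e'
    calc x * t * x⁻¹ = x * (t * x⁻¹) := by group
      _ = x⁻¹ * (x ^ 3) * t := by rw [h2, pow_succ, pow_two]; group
      _ = t * x := by rw [h.pow_three, mul_one, h1]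
  · refine isConj_iff.2 ⟨x⁻¹, ?_⟩
    have h2 : t * x⁻¹ = x * t := by
      have e' : t * x⁻¹ * t⁻¹ = x := by rw [show t * x⁻¹ * t⁻¹ = (t * x * t⁻¹)⁻¹ by group, ht, inv_inv]
      exact mul_inv_eq_iff_eq_mul.1 e'
    calc x⁻¹ * t * x⁻¹⁻¹ = x⁻¹ * (t * x) := by group
      _ = x * (x ^ 3)⁻¹ * t := by rw [h1]; group
      _ = t * x⁻¹ := by rw [h.pow_three, inv_one, mul_one, h2]

theorem classFinset_mul {G : Type u} [Group G] [Fintype G] (g : G) :
    (classFinset g).card * Nat.card (Subgroup.centralizer ({g} : Set G)) = Nat.card G := by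
  rw [card_classFinset, mul_comm, Subgroup.card_mul_index]

/-- The numerical data forced by the characters. -/
theorem char_data {G : Type u} [Group G] [Finite G] [IsSimpleGroup G] {x : G} (h : SC x) {t : G}
    (ht : t * x * t⁻¹ = x⁻¹) :
    ∃ (a : ℕ) (c : ℤ), a % 3 = 1 ∧ 4 ≤ a ∧ (∀ u : G, orderOf u = 2 → IsConj t u) ∧
      (Nat.card G : ℤ) * ((a : ℤ) - c) ^ 2 =
        3 * (Nat.card (Subgroup.centralizer ({t} : Set G)) : ℤ) ^ 2 * (a * (a + 1)) ∧
      c < a ∧ -(a : ℤ) ≤ c ∧ 1 + c ^ 2 + (1 + c) ^ 2 ≤ (Nat.card (Subgroup.centralizer ({t} : Set G)) : ℤ) ∧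
      Nat.card {p : G × G // orderOf p.1 = 3 ∧ orderOf p.2 = 3 ∧ p.1 * p.2 = x} * (9 * (a * (a + 1))) =
        Nat.card G * (a * (a + 1) + 1) := by
  classical
  haveI := Fintype.ofFinite G
  obtain ⟨ht2, ht1⟩ := h.inverter ht
  have hto : orderOf t = 2 := orderOf_eq_prime ht2 ht1
  have hxx : IsConj x x⁻¹ := isConj_iff.2 ⟨t, ht⟩
  have hev : 2 ∣ Nat.card G := hto ▸ orderOf_dvd_natCard t
  -- integral values
  have hix : ∀ χ : IrrCharacter G, ∃ m : ℤ, (χ : G → ℂ) x = m := by
    intro χ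
    refine exists_int_of_pow_invariant χ.2.isCharacter x fun k hk => ?_
    have hk3 : x ^ k ≠ 1 := fun e => by
      have hd := Nat.dvd_gcd (h.1 ▸ orderOf_dvd_of_pow_eq_one e : 3 ∣ k) h.three_dvd.1
      rw [hk.gcd_eq_one] at hd
      exact absurd (Nat.dvd_one.1 hd) (by norm_num)
    rcases h.mem_cases (Subgroup.pow_mem _ (Subgroup.mem_zpowers x) k) with e | e | e
    · exact absurd e hk3
    · rw [e]
    · rw [e]
      obtain ⟨g, hg⟩ := isConj_iff.1 hxx
      rw [← hg, χ.2.isClassFunction]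
  choose m hm using hix
  have hiu : ∀ u : G, orderOf u = 2 → ∀ χ : IrrCharacter G, ∃ z : ℤ, (χ : G → ℂ) u = z := by
    intro u hu χ
    refine exists_int_of_pow_invariant χ.2.isCharacter u fun k hk => ?_
    have hodd : k % 2 = 1 := by
      rcases Nat.mod_two_eq_zero_or_one k with e | e
      · have hd := Nat.dvd_gcd (Nat.dvd_of_mod_eq_zero e) hev
        rw [hk.gcd_eq_one] at hd
        exact absurd (Nat.dvd_one.1 hd) (by norm_num)
      · exact e
    rw [← pow_mod_orderOf, hu, hodd, pow_one]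
  let p0 : IrrCharacter G := ⟨fun _ => 1, isIrrCharacter_one⟩
  have hmp : m p0 = 1 := by
    have : ((1 : ℤ) : ℂ) = (m p0 : ℂ) := by rw [← hm p0]; simp [p0]
    exact_mod_cast this.symm
  -- the three characters
  have hsum3 : ∑ χ : IrrCharacter G, (m χ) ^ 2 = 3 := by
    have hcol := column_orthogonality x x
    rw [if_pos (IsConj.refl x)] at hcol
    have hC : Nat.card (Subgroup.centralizer ({x} : Set G)) = 3 := by
      rw [← h.1, ← Nat.card_zpowers x]
      congr 2
      refine le_antisymm (fun g hg => h.2 g (Subgroup.mem_centralizer_singleton_iff.1 hg)) ?_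
      exact Subgroup.zpowers_le.2 (Subgroup.mem_centralizer_singleton_iff.2 rfl)
    rw [hC] at hcol
    have : ((∑ χ : IrrCharacter G, (m χ) ^ 2 : ℤ) : ℂ) = ((3 : ℤ) : ℂ) := by
      push_cast
      refine Eq.trans (Finset.sum_congr rfl fun χ _ => ?_) hcol
      rw [hm χ, map_intCast]; ring
    exact_mod_cast this
  rw [← Finset.sum_erase_add _ _ (Finset.mem_univ p0), hmp] at hsum3
  set E := ((Finset.univ : Finset (IrrCharacter G)).erase p0).filter fun χ => m χ ≠ 0 with hE
  have hsum2 : ∑ χ ∈ E, (m χ) ^ 2 = 2 := by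
    rw [hE, Finset.sum_filter_of_ne]
    · linarith
    · intro χ _ hne e
      exact hne (by rw [e]; norm_num)
  have hone : ∀ χ ∈ E, m χ = 1 ∨ m χ = -1 := by
    intro χ hχ
    have h0 : m χ ≠ 0 := (Finset.mem_filter.1 hχ).2
    have hle : (m χ) ^ 2 ≤ 2 := hsum2 ▸ Finset.single_le_sum (fun ψ _ => sq_nonneg (m ψ)) hχ
    have h1 : m χ ≤ 1 := by nlinarith
    have h2 : -1 ≤ m χ := by nlinarith
    omega
  have hcard : E.card = 2 := by
    have : ∑ χ ∈ E, (m χ) ^ 2 = ∑ χ ∈ E, (1 : ℤ) := Finset.sum_congr rfl fun χ hχ => by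
      rcases hone χ hχ with e | e <;> rw [e] <;> norm_num
    rw [this, Finset.sum_const, nsmul_eq_mul, mul_one] at hsum2
    exact_mod_cast hsum2
  obtain ⟨θ₀, ψ₀, hne₀, hE₀⟩ := Finset.card_eq_two.1 hcard
  have hcolx : ∀ g : G, ¬ IsConj g x → ∀ θ ψ : IrrCharacter G, θ ≠ ψ → E = {θ, ψ} →
      1 + (θ : G → ℂ) g * m θ + (ψ : G → ℂ) g * m ψ = 0 := by
    intro g hg θ ψ hne hEq
    have hcol := column_orthogonality g x
    rw [if_neg hg] at hcol
    have hsub : ∑ χ ∈ ({p0, θ, ψ} : Finset (IrrCharacter G)), (χ : G → ℂ) g * conj ((χ : G → ℂ) x) = 0 := by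
      rw [← hcol]
      refine Finset.sum_subset (Finset.subset_univ _) fun χ _ hχ => ?_
      simp only [Finset.mem_insert, Finset.mem_singleton, not_or] at hχ
      have : m χ = 0 := by
        by_contra h0
        have : χ ∈ E := Finset.mem_filter.2 ⟨Finset.mem_erase.2 ⟨hχ.1, Finset.mem_univ _⟩, h0⟩
        rw [hEq] at this
        simp [hχ.2.1, hχ.2.2] at this
      rw [hm χ, this]; simp
    have hmem : θ ∈ E ∧ ψ ∈ E := by rw [hEq]; simp
    have hp : p0 ≠ θ ∧ p0 ≠ ψ :=
      ⟨fun e => (Finset.mem_erase.1 (Finset.mem_filter.1 hmem.1).1).1 e.symm,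
        fun e => (Finset.mem_erase.1 (Finset.mem_filter.1 hmem.2).1).1 e.symm⟩
    rw [Finset.sum_insert (by simp [hp.1, hp.2]), Finset.sum_pair hne, hm p0, hm θ, hm ψ, hmp] at hsub
    rw [← hsub]
    simp only [map_intCast, p0]
    push_cast
    ring
  have h1x : ¬ IsConj (1 : G) x := fun e => h.ne_one (isConj_one_right.1 e)
  obtain ⟨θ, ψ, hne, hEq, hmθ, hmψ⟩ : ∃ θ ψ : IrrCharacter G, θ ≠ ψ ∧ E = {θ, ψ} ∧ m θ = 1 ∧ m ψ = -1 := by
    have h1 := hcolx 1 h1x θ₀ ψ₀ hne₀ hE₀
    obtain ⟨da, hda0, hda⟩ := θ₀.2.exists_degree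
    obtain ⟨db, hdb0, hdb⟩ := ψ₀.2.exists_degree
    rw [hda, hdb] at h1
    have h1' : (1 : ℤ) + da * m θ₀ + db * m ψ₀ = 0 := by exact_mod_cast h1
    rcases hone θ₀ (by rw [hE₀]; simp) with e1 | e1 <;> rcases hone ψ₀ (by rw [hE₀]; simp) with e2 | e2 <;>
      rw [e1, e2] at h1'
    · exfalso; omega
    · exact ⟨θ₀, ψ₀, hne₀, hE₀, e1, e2⟩
    · exact ⟨ψ₀, θ₀, hne₀.symm, by rw [hE₀, Finset.pair_comm], e2, e1⟩
    · exfalso; omega
  have hrel : ∀ g : G, ¬ IsConj g x → (ψ : G → ℂ) g = 1 + (θ : G → ℂ) g := fun g hg => by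
    have := hcolx g hg θ ψ hne hEq
    rw [hmθ, hmψ] at this
    push_cast at this
    linear_combination -this
  obtain ⟨a, ha0, ha⟩ := θ.2.exists_degree
  have hb : (ψ : G → ℂ) 1 = 1 + a := by rw [hrel 1 h1x, ha]
  have ha3 : a % 3 = 1 := by
    have := modEq_degree_of_prime_pow θ.2.isCharacter (x := x) (p := 3) (k := 1) Nat.prime_three
      (by rw [pow_one]; exact h.pow_three) (a := 1) (by rw [hm θ, hmθ]) ha
    rw [Int.ModEq] at this
    omega
  have hθp : θ ≠ p0 := (Finset.mem_erase.1 (Finset.mem_filter.1 (by rw [hEq]; simp : θ ∈ E)).1).1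
  have hker : ∀ g : G, g ≠ 1 → (θ : G → ℂ) g ≠ (θ : G → ℂ) 1 := by
    intro g hg e
    have hK := (charKer_normal θ.2.isCharacter).eq_bot_or_eq_top.resolve_left
      (fun hb' => hg (Subgroup.mem_bot.1 (hb' ▸ (mem_charKer θ.2.isCharacter).2 e)))
    have hconst : ∀ y : G, (θ : G → ℂ) y = a := fun y => by
      rw [← ha]; exact (mem_charKer θ.2.isCharacter).1 (hK.symm.le (Subgroup.mem_top y))
    have hx1 := hconst x
    rw [hm θ, hmθ] at hx1
    have ha1 : a = 1 := by exact_mod_cast hx1.symm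
    exact hθp (Subtype.ext (funext fun y => by rw [hconst y, ha1]; simp [p0]))
  have ha4 : 4 ≤ a := by
    by_contra hlt
    have ha1 : a = 1 := by omega
    exact hker x h.ne_one (by rw [hm θ, hmθ, ha, ha1]; simp)
  -- class products towards `x`
  have hprod : ∀ u v : G, ∀ z1 z2 w1 w2 : ℂ, (θ : G → ℂ) u = z1 → (θ : G → ℂ) v = z2 →
      (ψ : G → ℂ) u = w1 → (ψ : G → ℂ) v = w2 →
      (((classFinset u ×ˢ classFinset v).filter fun p => p.1 * p.2 = x).card : ℂ) =
        ((classFinset u).card : ℂ) * (classFinset v).card / (Nat.card G : ℂ) *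
          (1 + z1 * z2 / a - w1 * w2 / (1 + a)) := by
    intro u v z1 z2 w1 w2 e1 e2 e3 e4
    rw [card_class_product u v x]
    congr 1
    have hsub : ∑ χ ∈ ({p0, θ, ψ} : Finset (IrrCharacter G)),
        (χ : G → ℂ) u * (χ : G → ℂ) v * conj ((χ : G → ℂ) x) / (χ : G → ℂ) 1 =
        ∑ χ : IrrCharacter G, (χ : G → ℂ) u * (χ : G → ℂ) v * conj ((χ : G → ℂ) x) / (χ : G → ℂ) 1 := by
      refine Finset.sum_subset (Finset.subset_univ _) fun χ _ hχ => ?_
      simp only [Finset.mem_insert, Finset.mem_singleton, not_or] at hχ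
      have : m χ = 0 := by
        by_contra h0
        have : χ ∈ E := Finset.mem_filter.2 ⟨Finset.mem_erase.2 ⟨hχ.1, Finset.mem_univ _⟩, h0⟩
        rw [hEq] at this
        simp [hχ.2.1, hχ.2.2] at this
      rw [hm χ, this]; simp
    have hp : p0 ≠ θ ∧ p0 ≠ ψ :=
      ⟨fun e => hθp e.symm,
        fun e => (Finset.mem_erase.1 (Finset.mem_filter.1 (by rw [hEq]; simp : ψ ∈ E)).1).1 e.symm⟩
    rw [← hsub, Finset.sum_insert (by simp [hp.1, hp.2]), Finset.sum_pair hne, hm p0, hm θ, hm ψ, hmp, hmθ, hmψ,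
      ha, hb, e1, e2, e3, e4]
    simp only [map_intCast, p0]
    push_cast
    ring
  have haC : (a : ℂ) ≠ 0 := Nat.cast_ne_zero.2 (by omega)
  have hbC : (1 + a : ℂ) ≠ 0 := by exact_mod_cast (by omega : 1 + a ≠ 0)
  have hGC : (Nat.card G : ℂ) ≠ 0 := card_cast_ne_zero
  have hinv : ∀ u : G, orderOf u = 2 → ¬ IsConj u x := fun u hu e => by
    obtain ⟨g, hg⟩ := isConj_iff.1 e
    have h2 : orderOf (g * u * g⁻¹) = 2 := by rw [← hu]; exact MulEquiv.orderOf_eq (MulAut.conj g) u
    rw [hg, h.1] at h2; omega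
  obtain ⟨c, hc⟩ := hiu t hto θ
  have hψt : (ψ : G → ℂ) t = 1 + (c : ℂ) := by rw [hrel t (hinv t hto), hc]
  have hcne : ∀ u : G, orderOf u = 2 → ∀ z : ℤ, (θ : G → ℂ) u = z → z ≠ a := fun u hu z hz e => by
    refine hker u (fun e' => by rw [e', orderOf_one] at hu; omega) ?_
    rw [hz, ha, e]; simp
  have honeclass : ∀ u : G, orderOf u = 2 → IsConj t u := by
    intro u hu
    by_contra hnc
    obtain ⟨z, hz⟩ := hiu u hu θ
    have hcard0 := hprod u t z c (1 + z) (1 + c) hz hc (by rw [hrel u (hinv u hu), hz]) hψt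
    rw [Finset.filter_false_of_mem, Finset.card_empty, Nat.cast_zero] at hcard0
    · have hKu : ((classFinset u).card : ℂ) ≠ 0 := Nat.cast_ne_zero.2
        (Finset.card_ne_zero.2 ⟨u, mem_classFinset.2 (IsConj.refl u)⟩)
      have hKt : ((classFinset t).card : ℂ) ≠ 0 := Nat.cast_ne_zero.2
        (Finset.card_ne_zero.2 ⟨t, mem_classFinset.2 (IsConj.refl t)⟩)
      have h0 := (mul_eq_zero.1 hcard0.symm).resolve_left (div_ne_zero (mul_ne_zero hKu hKt) hGC)
      field_simp at h0
      have h1 : ((((a : ℤ) - z) * ((a : ℤ) - c) : ℤ) : ℂ) = ((0 : ℤ) : ℂ) := by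
        push_cast; linear_combination h0
      have h2 : ((a : ℤ) - z) * ((a : ℤ) - c) = 0 := by exact_mod_cast h1
      rcases mul_eq_zero.1 h2 with e | e
      · exact hcne u hu z hz (by omega)
      · exact hcne t hto c hc (by omega)
    · intro p hp e
      rw [Finset.mem_product, mem_classFinset, mem_classFinset] at hp
      -- `p.1` inverts `x`
      obtain ⟨g1, hg1⟩ := isConj_iff.1 hp.1
      obtain ⟨g2, hg2⟩ := isConj_iff.1 hp.2
      have hp1 : p.1 * p.1 = 1 := by
        rw [← hg1, show g1 * u * g1⁻¹ * (g1 * u * g1⁻¹) = g1 * (u * u) * g1⁻¹ by group,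
          ← pow_two, ← hu, pow_orderOf_eq_one]; group
      have hp2 : p.2 * p.2 = 1 := by
        rw [← hg2, show g2 * t * g2⁻¹ * (g2 * t * g2⁻¹) = g2 * (t * t) * g2⁻¹ by group, ← pow_two, ht2]; group
      have hinvp : p.1 * x * p.1⁻¹ = x⁻¹ := by
        rw [← e, mul_inv_rev, inv_eq_of_mul_eq_one_right hp1, inv_eq_of_mul_eq_one_right hp2,
          ← mul_assoc, hp1, one_mul]
      exact hnc ((inverter_conj h ht hinvp).trans hp.1.symm)
  refine ⟨a, c, ha3, ha4, honeclass, ?_, ?_, ?_, ?_, ?_⟩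
  · -- involution pairs
    have hcard := hprod t t c c (1 + c) (1 + c) hc hc hψt hψt
    have h3 : ((classFinset t ×ˢ classFinset t).filter fun p => p.1 * p.2 = x).card = 3 := by
      have hset : ((classFinset t ×ˢ classFinset t).filter fun p => p.1 * p.2 = x) =
          ({t, t * x, t * x⁻¹} : Finset G).image fun g => (g, g * x) := by
        have hmem : ∀ g : G, g * x * g⁻¹ = x⁻¹ → g * g = 1 ∧ g * x * (g * x)⁻¹⁻¹ = 1 := by
          intro g hg
          obtain ⟨hg2, -⟩ := h.inverter hg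
          rw [pow_two] at hg2
          refine ⟨hg2, ?_⟩
          calc g * x * (g * x)⁻¹⁻¹ = (g * x * g⁻¹) * (g * g) * x := by group
            _ = 1 := by rw [hg, hg2]; group
        ext p
        rw [Finset.mem_filter, Finset.mem_product, mem_classFinset, mem_classFinset, Finset.mem_image]
        constructor
        · rintro ⟨⟨hp1, hp2⟩, e⟩
          obtain ⟨g1, hg1⟩ := isConj_iff.1 hp1
          obtain ⟨g2, hg2⟩ := isConj_iff.1 hp2
          have hp1' : p.1 * p.1 = 1 := by
            rw [← hg1, show g1 * t * g1⁻¹ * (g1 * t * g1⁻¹) = g1 * (t * t) * g1⁻¹ by group, ← pow_two, ht2]; group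
          have hp2' : p.2 * p.2 = 1 := by
            rw [← hg2, show g2 * t * g2⁻¹ * (g2 * t * g2⁻¹) = g2 * (t * t) * g2⁻¹ by group, ← pow_two, ht2]; group
          refine ⟨p.1, ?_, Prod.ext rfl ?_⟩
          · have hinvp : p.1 * x * p.1⁻¹ = x⁻¹ := by
              rw [← e, mul_inv_rev, inv_eq_of_mul_eq_one_right hp1', inv_eq_of_mul_eq_one_right hp2',
                ← mul_assoc, hp1', one_mul]
            simpa using h.inverter_cases ht hinvp
          · show p.1 * x = p.2
            rw [← e, ← mul_assoc, hp1', one_mul]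
        · rintro ⟨g, hg, rfl⟩
          have hgi : g * x * g⁻¹ = x⁻¹ := by
            simp only [Finset.mem_insert, Finset.mem_singleton] at hg
            rcases hg with rfl | rfl | rfl
            · exact ht
            · rw [show t * x * x * (t * x)⁻¹ = t * x * t⁻¹ by group, ht]
            · rw [show t * x⁻¹ * x * (t * x⁻¹)⁻¹ = t * x * t⁻¹ by group, ht]
          obtain ⟨hgg, -⟩ := hmem g hgi
          have hgx : g * x * x * (g * x)⁻¹ = x⁻¹ := by
            rw [show g * x * x * (g * x)⁻¹ = g * x * g⁻¹ by group, hgi]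
          exact ⟨⟨inverter_conj h ht hgi, inverter_conj h ht hgx⟩, by
            show g * (g * x) = x
            rw [← mul_assoc, hgg, one_mul]⟩
      rw [hset, Finset.card_image_of_injective _ fun g g' e => (Prod.ext_iff.1 e).1]
      have hx2 : x ≠ x⁻¹ := fun e => h.ne_one (by
        have e2 : x * x = 1 := by nth_rewrite 1 [e]; exact inv_mul_cancel x
        calc x = x ^ 3 * (x * x)⁻¹ := by group
          _ = 1 := by rw [h.pow_three, e2, inv_one, mul_one])
      rw [Finset.card_insert_of_notMem, Finset.card_insert_of_notMem, Finset.card_singleton]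
      · simpa using hx2
      · simp [h.ne_one]
    rw [h3] at hcard
    set K := (classFinset t).card
    set C := Nat.card (Subgroup.centralizer ({t} : Set G))
    have hKC : (K : ℂ) * C = Nat.card G := by exact_mod_cast classFinset_mul t
    field_simp at hcard
    push_cast at hcard
    have : (((Nat.card G : ℤ) * ((a : ℤ) - c) ^ 2 : ℤ) : ℂ) =
        ((3 * (C : ℤ) ^ 2 * (a * (a + 1)) : ℤ) : ℂ) := by
      push_cast
      have hexp : (a : ℂ) * (1 + a) + c ^ 2 * (1 + a) - a * (1 + c) ^ 2 = ((a : ℂ) - c) ^ 2 := by ring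
      rw [← hexp]
      apply mul_left_cancel₀ hGC
      have h' : (3 : ℂ) * (Nat.card G : ℂ) * a * (1 + a) * C ^ 2 =
          (K * C) ^ 2 * ((a : ℂ) * (1 + a) + c ^ 2 * (1 + a) - a * (1 + c) ^ 2) := by
        linear_combination (C : ℂ) ^ 2 * hcard
      rw [hKC] at h'
      linear_combination -h'
    exact_mod_cast this
  · exact lt_of_le_of_ne (by
      have := θ.2.isCharacter.norm_le t
      rw [hc, ha, Complex.norm_intCast] at this
      simp only [Complex.natCast_re] at this
      have h' : |c| ≤ (a : ℤ) := by exact_mod_cast this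
      exact (abs_le.1 h').2) (hcne t hto c hc)
  · have := θ.2.isCharacter.norm_le t
    rw [hc, ha, Complex.norm_intCast] at this
    simp only [Complex.natCast_re] at this
    have h' : |c| ≤ (a : ℤ) := by exact_mod_cast this
    exact (abs_le.1 h').1
  · -- column at `t`
    have hcol := column_orthogonality t t
    rw [if_pos (IsConj.refl t)] at hcol
    choose z hz using hiu t hto
    have hsumz : ∑ χ : IrrCharacter G, (z χ) ^ 2 = (Nat.card (Subgroup.centralizer ({t} : Set G)) : ℤ) := by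
      have : ((∑ χ : IrrCharacter G, (z χ) ^ 2 : ℤ) : ℂ) =
          (((Nat.card (Subgroup.centralizer ({t} : Set G)) : ℕ) : ℤ) : ℂ) := by
        push_cast
        refine Eq.trans (Finset.sum_congr rfl fun χ _ => ?_) hcol
        rw [hz χ, map_intCast]; ring
      exact_mod_cast this
    rw [← hsumz]
    have hp : p0 ≠ θ ∧ p0 ≠ ψ :=
      ⟨fun e => hθp e.symm,
        fun e => (Finset.mem_erase.1 (Finset.mem_filter.1 (by rw [hEq]; simp : ψ ∈ E)).1).1 e.symm⟩
    have hle := Finset.sum_le_sum_of_subset_of_nonneg (s := ({p0, θ, ψ} : Finset (IrrCharacter G)))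
      (Finset.subset_univ _) (fun χ _ _ => sq_nonneg (z χ))
    rw [Finset.sum_insert (by simp [hp.1, hp.2]), Finset.sum_pair hne] at hle
    have e1 : z p0 = 1 := by
      have : ((1 : ℤ) : ℂ) = (z p0 : ℂ) := by rw [← hz p0]; simp [p0]
      exact_mod_cast this.symm
    have e2 : z θ = c := by exact_mod_cast (hz θ).symm.trans hc
    have e3 : z ψ = 1 + c := by exact_mod_cast (hz ψ).symm.trans hψt
    rw [e1, e2, e3] at hle
    linarith
  · -- pairs of elements of order three
    have hcard := hprod x x 1 1 (-1) (-1) (by rw [hm θ, hmθ]; simp) (by rw [hm θ, hmθ]; simp)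
      (by rw [hm ψ, hmψ]; simp) (by rw [hm ψ, hmψ]; simp)
    have hK : ∀ g : G, g ∈ classFinset x ↔ orderOf g = 3 := by
      intro g
      rw [mem_classFinset, isConj_iff]
      constructor
      · rintro ⟨k, rfl⟩; rw [← h.1]; exact MulEquiv.orderOf_eq (MulAut.conj k) x
      · intro hg
        obtain ⟨k, hk | hk⟩ := h.exists_conj hg
        · exact ⟨k, hk⟩
        · exact ⟨k * t, by rw [← hk, ← ht]; group⟩
    have hN : Nat.card {p : G × G // orderOf p.1 = 3 ∧ orderOf p.2 = 3 ∧ p.1 * p.2 = x} =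
        ((classFinset x ×ˢ classFinset x).filter fun p => p.1 * p.2 = x).card := by
      rw [Nat.card_eq_fintype_card]
      refine Fintype.card_of_subtype _ fun p => ?_
      rw [Finset.mem_filter, Finset.mem_product, hK, hK, and_assoc]
    rw [hN]
    set N := ((classFinset x ×ˢ classFinset x).filter fun p => p.1 * p.2 = x).card
    set K := (classFinset x).card
    have hC : Nat.card (Subgroup.centralizer ({x} : Set G)) = 3 := by
      rw [← h.1, ← Nat.card_zpowers x]
      congr 2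
      refine le_antisymm (fun g hg => h.2 g (Subgroup.mem_centralizer_singleton_iff.1 hg)) ?_
      exact Subgroup.zpowers_le.2 (Subgroup.mem_centralizer_singleton_iff.2 rfl)
    have hK3 : (K : ℂ) * 3 = Nat.card G := by
      have := classFinset_mul x
      rw [hC] at this
      exact_mod_cast this
    field_simp at hcard
    push_cast at hcard
    have : ((N * (9 * (a * (a + 1))) : ℕ) : ℂ) = ((Nat.card G * (a * (a + 1) + 1) : ℕ) : ℂ) := by
      push_cast
      apply mul_left_cancel₀ hGC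
      have h' : (N : ℂ) * (9 * (a * (a + 1))) * (Nat.card G : ℂ) =
          (K * 3) ^ 2 * ((a : ℂ) * (a + 1) + 1) := by
        linear_combination (9 : ℂ) * hcard
      rw [hK3] at h'
      linear_combination h'
    exact_mod_cast this

end Cfsg.Lib.Recog.SelfThree
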