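import Cfsg.Agent.Lib.Recog.SelfThree.Inter
import Cfsg.Agent.Lib.Recog.SelfThree.CharData
import Cfsg.Agent.Lib.Recog.DegreeTwoModFour
import Cfsg.Agent.Lib.OrderLeHundred

/-!
# The order of a simple group with a self-centralising element of order three
-/

set_option autoImplicit false
set_option linter.style.haveILetI false
set_option linter.unusedSectionVars false

namespace Cfsg.Lib.Recog.SelfThree

open Finset

universe u

/-- The numerical conditions, in terms of `j = c + 8`. -/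
def Row (a s j : ℕ) : Prop :=
  (4 ≤ a ∧ a % 3 = 1 ∧ s % 3 ≠ 0 ∧ j < a + 8 ∧ 8 ≤ a + j ∧
    1 + (j * j + 64 - 16 * j) + (j * j + 49 - 14 * j) ≤ (a + 8 - j) * s ∧ (a + 8 - j) * s % 4 = 0 ∧
    3 * (a * (a + 1) * s * s) % ((a + 8 - j) * s) = 0 ∧
    3 * (a * (a + 1) * s * s) / ((a + 8 - j) * s) % 2 = 1 ∧
    (4480 % (a * (a + 1) * s * s) = 0 ∨ ∃ R < 9, 2 * (R * R) ≤ (a + 8 - j) * s ∧
      10 * (a * (a + 1) * s * s) + 22 * (s * s) ≤ 1254 + 33 * (R + 1) * ((a + 8 - j) * s - 2))) →
    3 * (a * (a + 1) * s * s) = 60 ∨ 3 * (a * (a + 1) * s * s) = 168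

instance rowDecidable (a s j : ℕ) : Decidable (Row a s j) := by
  unfold Row; infer_instance

set_option maxRecDepth 100000 in
/-- The finitely many remaining numerical possibilities. -/
theorem enum_rows : ∀ a < 67, ∀ s < 17, ∀ j < 16, Row a s j := by decide +kernel

theorem sum_pred_le_prod {S : Finset ℕ} (h : ∀ v ∈ S, 1 ≤ v) : ∑ v ∈ S, (v - 1) ≤ (∏ v ∈ S, v) - 1 := by
  induction S using Finset.induction with
  | empty => simp
  | insert w S hw ih =>
    rw [sum_insert hw, prod_insert hw]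
    have h1 := h w (mem_insert_self w S)
    have h2 := ih fun v hv => h v (mem_insert_of_mem hv)
    have h3 : 1 ≤ ∏ v ∈ S, v := one_le_prod' fun v hv => h v (mem_insert_of_mem hv)
    obtain ⟨p, hp⟩ : ∃ p, ∏ v ∈ S, v = p + 1 := ⟨_, (Nat.sub_add_cancel h3).symm⟩
    obtain ⟨q, rfl⟩ : ∃ q, w = q + 1 := ⟨_, (Nat.sub_add_cancel h1).symm⟩
    rw [hp] at h2 ⊢
    rw [show (q + 1) * (p + 1) = q * p + q + p + 1 by ring]
    omega

/-- The bound on the sum over the distinct orders. -/
theorem sum_pred_bound {S : Finset ℕ} {Q : ℕ} (hQ : 0 < Q) (h4 : ∀ v ∈ S, 4 ≤ v ∧ v % 3 = 1)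
    (hv : ∀ v ∈ S, 11 * v ≤ Q) (hprod : ∏ v ∈ S, v ∣ Q) : 11 * ∑ v ∈ S, (v - 1) ≤ Q + 99 := by
  rcases S.eq_empty_or_nonempty with rfl | hne
  · simp
  set w := S.max' hne with hw
  have hwS : w ∈ S := S.max'_mem hne
  have h1 : ∑ v ∈ S.erase w, (v - 1) ≤ (∏ v ∈ S.erase w, v) - 1 :=
    sum_pred_le_prod fun v hv => (by have := h4 v (mem_of_mem_erase hv); omega)
  have hsum := (add_sum_erase S (fun v => v - 1) hwS).symm
  rw [← mul_prod_erase S (fun v => v) hwS] at hprod
  set y := ∏ v ∈ S.erase w, v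
  have hle : w * y ≤ Q := Nat.le_of_dvd hQ hprod
  have hw4 := h4 w hwS
  have hwQ := hv w hwS
  rcases lt_or_ge y 11 with hy | hy
  · omega
  rcases lt_or_ge w 11 with hw11 | hw11
  · have hsub : S ⊆ {4, 7, 10} := fun v hv' => by
      have h5 : v ≤ w := S.le_max' v hv'
      have := h4 v hv'
      simp only [mem_insert, mem_singleton]
      omega
    have : ∑ v ∈ S, (v - 1) ≤ 18 := (sum_le_sum_of_subset hsub).trans (by decide)
    by_cases hw10 : w = 10
    · nlinarith
    · exfalso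
      have hsub' : S.erase w ⊆ {4} := fun v hv' => by
        obtain ⟨hvw, hvS⟩ := mem_erase.1 hv'
        have h5 : v ≤ w := S.le_max' v hvS
        have := h4 v hvS
        simp only [mem_singleton]
        omega
      have : y ≤ 4 := (prod_le_prod_of_subset_of_one_le' hsub' (fun v hv' _ => by
        rw [mem_singleton.1 hv']; norm_num)).trans (by simp)
      omega
  · obtain ⟨p, hp⟩ : ∃ p, w = 11 + p := ⟨w - 11, by omega⟩
    obtain ⟨q, hq⟩ : ∃ q, y = 11 + q := ⟨y - 11, by omega⟩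
    rw [hq] at h1 hle
    rw [hp] at hle
    have h6 : 11 * ∑ v ∈ S, (v - 1) ≤ 11 * (10 + p + (10 + q)) := Nat.mul_le_mul_left _ (by omega)
    nlinarith [Nat.zero_le (p * q)]

variable {G : Type u} [Group G] [Finite G] {x t : G}

theorem IsMax.four_le (h : SC x) {M : Subgroup G} (hM : IsMax x M) :
    4 ≤ Nat.card M ∧ Nat.card M % 3 = 1 := by
  have h1 := h.card_mod hM.1
  refine ⟨?_, h1⟩
  have h2 : Nat.card M ≠ 1 := fun e => hM.2.1 (Subgroup.card_eq_one.1 e)
  omega

/-- The pairs of elements of order three with product `x`. -/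
theorem Ctx.pairs_le (C : Ctx G x t) [Fintype (Subgroup G)] [DecidablePred (IsMax x)] :
    Nat.card {p : G × G // orderOf p.1 = 3 ∧ orderOf p.2 = 3 ∧ p.1 * p.2 = x} ≤
      1 + ∑ M ∈ univ.filter (IsMax x), (Nat.card M - 1) := by
  classical
  haveI := Fintype.ofFinite G
  have hU : ∀ p : {p : G × G // orderOf p.1 = 3 ∧ orderOf p.2 = 3 ∧ p.1 * p.2 = x},
      p.1.1 * x ∈ insert 1 ((univ.filter (IsMax x)).biUnion fun M => (univ.filter (· ∈ M)).erase 1) := by
    rintro ⟨⟨u, v⟩, hu, hv, huv⟩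
    simp only at hu hv huv ⊢
    set w := u * x with hwdef
    by_cases hw : w = 1
    · exact mem_insert.2 (Or.inl hw)
    refine mem_insert.2 (Or.inr (mem_biUnion.2 ?_))
    have hx3 : x * (x * x) = 1 := by rw [← mul_assoc, ← pow_two, ← pow_succ, C.sc.pow_three]
    have hu3 : u * u * u = 1 := by rw [← pow_two, ← pow_succ, show 2 + 1 = orderOf u from hu.symm, pow_orderOf_eq_one]
    have hv3 : v * v * v = 1 := by rw [← pow_two, ← pow_succ, show 2 + 1 = orderOf v from hv.symm, pow_orderOf_eq_one]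
    have hxinv : x * x = x⁻¹ := eq_inv_of_mul_eq_one_right hx3
    have hue : u = w * x⁻¹ := by rw [hwdef]; group
    have hve : v = x * w⁻¹ * x := by
      rw [← mul_inv_cancel_left u⁻¹ v, inv_inv, huv, hue]; group
    set w1 := x⁻¹ * w * x with hw1
    set w2 := x * w * x⁻¹ with hw2
    have e1 : w * w1 * w2 = 1 := by
      calc w * w1 * w2 = w * x⁻¹ * w * (x * x) * w * x⁻¹ := by rw [hw1, hw2]; group
        _ = (w * x⁻¹) * (w * x⁻¹) * (w * x⁻¹) := by rw [hxinv]; group
        _ = 1 := by rw [← hue, hu3]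
    have e2 : w2 * w1 * w = 1 := by
      have h1 : (w2 * w1 * w)⁻¹ = 1 := by
        calc (w2 * w1 * w)⁻¹ = w⁻¹ * x⁻¹ * w⁻¹ * (x * x) * w⁻¹ * x⁻¹ := by simp [hw1, hw2, mul_assoc]
          _ = w⁻¹ * (x * x) * w⁻¹ * (x * x) * w⁻¹ * (x * x) := by rw [hxinv]
          _ = x⁻¹ * ((x * w⁻¹ * x) * (x * w⁻¹ * x) * (x * w⁻¹ * x)) * x := by group
          _ = 1 := by rw [← hve, hv3]; group
      exact inv_eq_one.1 h1
    have hcomm : w * w1 = w1 * w :=
      (eq_inv_of_mul_eq_one_left e1).trans (eq_inv_of_mul_eq_one_right (by rw [← mul_assoc]; exact e2)).symm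
    set A := Subgroup.closure ({w, w1} : Set G) with hA
    have hwA : w ∈ A := Subgroup.subset_closure (by simp)
    have hw1A : w1 ∈ A := Subgroup.subset_closure (by simp)
    have hAab : ∀ p ∈ A, ∀ q ∈ A, p * q = q * p := by
      haveI := Subgroup.isMulCommutative_closure (k := ({w, w1} : Set G)) (by
        intro p hp q hq
        simp only [Set.mem_insert_iff, Set.mem_singleton_iff] at hp hq
        rcases hp with rfl | rfl <;> rcases hq with rfl | rfl
        exacts [rfl, hcomm, hcomm.symm, rfl])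
      intro p hp q hq
      exact congrArg Subtype.val (mul_comm' (⟨p, hp⟩ : A) ⟨q, hq⟩)
    have hxA : ∀ k ∈ A, x⁻¹ * k * x ∈ A := by
      intro k hk
      have hle : A ≤ A.comap (MulAut.conj x⁻¹).toMonoidHom := by
        rw [hA, Subgroup.closure_le]
        intro p hp
        simp only [Set.mem_insert_iff, Set.mem_singleton_iff] at hp
        show x⁻¹ * p * x⁻¹⁻¹ ∈ A
        rw [inv_inv]
        rcases hp with rfl | rfl
        · exact hw1A
        · rw [show x⁻¹ * w1 * x = x⁻¹ * x⁻¹ * w * (x * x) by rw [hw1]; group,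
            show x⁻¹ * x⁻¹ = (x * x)⁻¹ by group, hxinv, inv_inv, ← hw2,
            eq_inv_of_mul_eq_one_right e1]
          exact A.inv_mem (A.mul_mem hwA hw1A)
      simpa using hle hk
    have h3A : ¬ 3 ∣ Nat.card A := by
      intro h3
      haveI := Fact.mk Nat.prime_three
      obtain ⟨⟨y, hy⟩, hyo⟩ := exists_prime_orderOf_dvd_card' (G := A) 3 h3
      rw [Subgroup.orderOf_mk] at hyo
      have hsc : SC y := by
        obtain ⟨g, hg | hg⟩ := C.sc.exists_conj hyo
        · exact hg ▸ C.sc.conj g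
        · exact hg ▸ C.sc.inv.conj g
      have hAy : A ≤ Subgroup.zpowers y := fun p hp => hsc.2 p (hAab p hp y hy)
      have hyx : Commute y x := by
        rcases hsc.mem_cases (hAy (hxA y hy)) with e | e | e
        · exact absurd (show y = 1 by
            calc y = x * (x⁻¹ * y * x) * x⁻¹ := by group
              _ = 1 := by rw [e]; group) hsc.ne_one
        · show y * x = x * y
          calc y * x = x * (x⁻¹ * y * x) := by group
            _ = x * y := by rw [e]
        · exfalso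
          refine hsc.inv.ne_one ?_
          have h2 : x⁻¹ * y⁻¹ * x = y := by
            rw [show x⁻¹ * y⁻¹ * x = (x⁻¹ * y * x)⁻¹ by group, e, inv_inv]
          have h4 : y⁻¹ = y := by
            calc y⁻¹ = x⁻¹ * y * x := e.symm
              _ = x⁻¹ * (x⁻¹ * y⁻¹ * x) * x := by rw [h2]
              _ = x⁻¹ * (x⁻¹ * (x⁻¹ * y * x) * x) * x := by rw [e]
              _ = (x * (x * x))⁻¹ * y * (x * (x * x)) := by group
              _ = y := by rw [hx3]; group
          have h5 : y * y = 1 := by nth_rewrite 1 [← h4]; exact inv_mul_cancel y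
          calc y⁻¹ = y ^ 3 * (y * y)⁻¹ * (y * y)⁻¹ := by group
            _ = 1 := by rw [hsc.pow_three, h5]; group
      have hAx : w ∈ Subgroup.zpowers x :=
        ((Subgroup.zpowers_le.2 (C.sc.2 y hyx.eq)) : Subgroup.zpowers y ≤ _) (hAy hwA)
      rcases C.sc.mem_cases hAx with e | e | e
      · exact hw e
      · rw [hwdef, mul_eq_right] at e
        rw [e, orderOf_one] at hu; norm_num at hu
      · rw [hve, e, inv_inv, mul_assoc, hx3, orderOf_one] at hv; norm_num at hv
    have hAinv : InvThree x⁻¹ A := ⟨fun k hk => by simpa using hxA k hk, h3A⟩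
    obtain ⟨M, hM, hAM⟩ := exists_max (x := x) (by simpa using hAinv.inv)
      (fun e => hw (Subgroup.mem_bot.1 (e ▸ hwA)))
    exact ⟨M, mem_filter.2 ⟨mem_univ _, hM⟩, mem_erase.2 ⟨hw, mem_filter.2 ⟨mem_univ _, hAM hwA⟩⟩⟩
  rw [Nat.card_eq_fintype_card]
  calc _ ≤ (insert 1 ((univ.filter (IsMax x)).biUnion fun M => (univ.filter (· ∈ M)).erase 1)).card := by
        rw [← card_univ]
        refine card_le_card_of_injOn (fun p => p.1.1 * x) (fun p _ => hU p) ?_
        intro p _ p' _ e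
        obtain ⟨⟨u, v⟩, _, _, huv⟩ := p
        obtain ⟨⟨u', v'⟩, _, _, huv'⟩ := p'
        have hu : u = u' := mul_right_cancel (show u * x = u' * x from e)
        subst hu
        have : v = v' := mul_left_cancel (huv.trans huv'.symm)
        subst this
        rfl
    _ ≤ ((univ.filter (IsMax x)).biUnion fun M => (univ.filter (· ∈ M)).erase 1).card + 1 := card_insert_le _ _
    _ ≤ (∑ M ∈ univ.filter (IsMax x), ((univ.filter (· ∈ M)).erase 1).card) + 1 :=
        Nat.add_le_add_right card_biUnion_le 1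
    _ = _ := by
      rw [add_comm]
      refine congrArg (1 + ·) (sum_congr rfl fun M _ => ?_)
      rw [card_erase_of_mem (by simp), Nat.card_eq_fintype_card, Fintype.card_subtype]

/-- A pool member in a group without subgroups of small index. -/
theorem Ctx.pool_bound (C : Ctx G x t) {M : Subgroup G} (hM : IsMax x M) {P : ℕ}
    (hP : Nat.card G = 3 * P) (hPmod : P % 3 = 2) (hn : 8 < (Subgroup.normalizer (M : Set G)).index) :
    11 * Nat.card M ≤ P ∧ Nat.card M ∣ P := by
  set H := Subgroup.normalizer (M : Set G)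
  obtain ⟨hm4, hm3⟩ := hM.four_le C.sc
  have h1 : Nat.card M * M.relIndex H * H.index = Nat.card G := by
    rw [← Subgroup.relIndex_bot_left, Subgroup.relIndex_mul_relIndex _ _ _ bot_le Subgroup.le_normalizer,
      Subgroup.relIndex_bot_left, Subgroup.card_mul_index]
  rw [hP] at h1
  rcases C.normalizer_max hM with e | e <;> rw [e] at h1
  · have h2 : Nat.card M * H.index = P := by linarith
    refine ⟨?_, Dvd.intro _ h2⟩
    have h3 : H.index % 3 = 2 := by
      have := congrArg (· % 3) h2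
      simp only [Nat.mul_mod, hm3, one_mul, Nat.mod_mod, hPmod] at this
      exact this
    nlinarith [show 11 ≤ H.index by omega]
  · have h2 : Nat.card M * (2 * H.index) = P := by linarith
    exact ⟨by nlinarith, Dvd.intro _ h2⟩

/-- The contribution of the pool. -/
theorem Ctx.pool_sum (C : Ctx G x t) [Fintype (Subgroup G)] [DecidablePred (IsMax x)] [DecidablePred (IsPool t)]
    {P : ℕ} (hP : Nat.card G = 3 * P) (hPmod : P % 3 = 2)
    (hn : ∀ M : Subgroup G, IsMax x M → 8 < (Subgroup.normalizer (M : Set G)).index) :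
    11 * ∑ M ∈ (univ.filter (IsMax x)).filter (IsPool t), (Nat.card M - 1) ≤ 2 * P + 198 := by
  classical
  set F := (univ.filter (IsMax x)).filter (IsPool t) with hF
  have hmem : ∀ M ∈ F, IsMax x M ∧ IsPool t M := fun M hM => by simpa [hF] using hM
  set S : Finset ℕ := F.image fun M : Subgroup G => Nat.card M
  have hshare : ∀ M ∈ F, ∀ M' ∈ F, ¬ Nat.Coprime (Nat.card M) (Nat.card M') →
      M' = M ∨ M' = M.map (MulAut.conj t).toMonoidHom := by
    intro M hM M' hM' hco
    obtain ⟨q, hq, h1, h2⟩ := Nat.Prime.not_coprime_iff_dvd.1 hco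
    haveI := Fact.mk hq
    exact C.eq_or_conj (hmem M hM).1 (hmem M' hM').1 (hmem M hM).2 (hmem M' hM').2 h1 h2
  have hfib : ∀ v ∈ S, (F.filter fun M : Subgroup G => Nat.card M = v).card ≤ 2 := by
    intro v hv
    obtain ⟨M, hM, hMv⟩ := mem_image.1 hv
    refine (card_le_card (t := {M, M.map (MulAut.conj t).toMonoidHom}) fun M' hM' => ?_).trans card_le_two
    obtain ⟨hM'F, hM'v⟩ := mem_filter.1 hM'
    have := ((hmem M hM).1.four_le C.sc).1
    have hnc : ¬ Nat.Coprime (Nat.card M) (Nat.card M') := by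
      rw [hM'v, ← hMv, Nat.coprime_self]; omega
    simpa using hshare M hM M' hM'F hnc
  have hS : ∑ M ∈ F, (Nat.card M - 1) ≤ 2 * ∑ v ∈ S, (v - 1) := by
    rw [sum_comp (fun v => v - 1) (fun M : Subgroup G => Nat.card M), mul_sum]
    exact sum_le_sum fun v hv => by rw [smul_eq_mul]; exact Nat.mul_le_mul_right _ (hfib v hv)
  have hco : (S : Set ℕ).Pairwise Nat.Coprime := by
    intro v hv v' hv' hne
    obtain ⟨M, hM, rfl⟩ := mem_image.1 hv
    obtain ⟨M', hM', rfl⟩ := mem_image.1 hv'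
    by_contra hnc
    rcases hshare M hM M' hM' hnc with rfl | rfl
    · exact hne rfl
    · exact hne (Subgroup.card_map_of_injective (MulAut.conj t).injective).symm
  have hdvd : ∀ T : Finset ℕ, T ⊆ S → ∏ v ∈ T, v ∣ P := by
    intro T
    induction T using Finset.induction with
    | empty => simp
    | insert v T hv ih =>
      intro hsub
      rw [prod_insert hv]
      refine Nat.Coprime.mul_dvd_of_dvd_of_dvd ?_ ?_ (ih fun a ha => hsub (mem_insert_of_mem ha))
      · refine Nat.Coprime.prod_right fun b hb => hco ?_ ?_ fun e => hv (e ▸ hb)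
        · exact hsub (mem_insert_self v T)
        · exact hsub (mem_insert_of_mem hb)
      · obtain ⟨M, hM, hMv⟩ := mem_image.1 (hsub (mem_insert_self v T))
        exact hMv ▸ (C.pool_bound (hmem M hM).1 hP hPmod (hn M (hmem M hM).1)).2
  have := sum_pred_bound (S := S) (Q := P) (by omega)
    (fun v hv => by obtain ⟨M, hM, rfl⟩ := mem_image.1 hv; exact (hmem M hM).1.four_le C.sc)
    (fun v hv => by
      obtain ⟨M, hM, rfl⟩ := mem_image.1 hv
      exact (C.pool_bound (hmem M hM).1 hP hPmod (hn M (hmem M hM).1)).1)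
    (hdvd S Subset.rfl)
  omega

/-- A central involution fixed by `t` in a member of even order normalised by `t`. -/
theorem Ctx.exists_central (C : Ctx G x t) {M : Subgroup G} (hM : IsMax x M)
    (htM : t ∈ Subgroup.normalizer (M : Set G)) (he : 2 ∣ Nat.card M) :
    ∃ z ∈ M, orderOf z = 2 ∧ Commute z t ∧ ∀ m ∈ M, Commute z m := by
  haveI := Fact.mk Nat.prime_two
  haveI : Group.IsNilpotent M := C.sc.nilpotent hM.1
  obtain ⟨S⟩ : Nonempty (Sylow 2 M) := inferInstance
  haveI hSn : (S : Subgroup M).Normal := inferInstance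
  set W := (S : Subgroup M).map M.subtype with hW
  have hnorm : Subgroup.normalizer (W : Set G) = Subgroup.normalizer (M : Set G) := C.normalizer_sylow hM he S
  obtain ⟨ht2, ht1⟩ := C.sc.inverter C.inv
  have hWp : IsPGroup 2 W := S.2.map _
  have hTp : IsPGroup 2 (W ⊔ Subgroup.zpowers t : Subgroup G) := by
    refine hWp.to_sup_of_normal_left' ?_ ?_
    · exact IsPGroup.of_card (n := 1) (by rw [Nat.card_zpowers, orderOf_eq_prime ht2 ht1, pow_one])
    · rw [Subgroup.zpowers_le, hnorm]; exact htM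
  set T := W ⊔ Subgroup.zpowers t
  have hTle : T ≤ Subgroup.normalizer (W : Set G) :=
    sup_le Subgroup.le_normalizer (by rw [Subgroup.zpowers_le, hnorm]; exact htM)
  let φ : T →* MulAut W := W.normalizerMonoidHom.comp (Subgroup.inclusion hTle)
  letI : MulAction T W := MulAction.compHom W φ
  have hmod := hTp.card_modEq_card_fixedPoints W
  have hWeven : 2 ∣ Nat.card W := by
    rw [Subgroup.card_map_of_injective (f := M.subtype) M.subtype_injective]
    exact S.dvd_card_of_dvd_card he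
  have hone : (1 : W) ∈ MulAction.fixedPoints T W := fun g => map_one (φ g)
  obtain ⟨z, hz, hz1⟩ : ∃ z : W, z ∈ MulAction.fixedPoints T W ∧ z ≠ 1 := by
    by_contra hh
    push Not at hh
    have : MulAction.fixedPoints T W = {1} := Set.eq_singleton_iff_unique_mem.2 ⟨hone, hh⟩
    rw [this] at hmod
    simp [Nat.ModEq] at hmod
    omega
  have hfix : ∀ g ∈ T, Commute z.1 g := fun g hg => by
    have := congrArg Subtype.val (hz ⟨g, hg⟩)
    exact (mul_inv_eq_iff_eq_mul.1 this).symm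
  -- a power of order two
  obtain ⟨z', hz'mem, hz'o⟩ : ∃ z' ∈ Subgroup.zpowers z.1, orderOf z' = 2 := by
    obtain ⟨⟨v, hv⟩, hvo⟩ := exists_prime_orderOf_dvd_card' (G := Subgroup.zpowers z.1) 2 (by
      rw [Nat.card_zpowers, Subgroup.orderOf_coe]
      obtain ⟨k, hk⟩ := IsPGroup.iff_orderOf.1 hWp z
      rw [hk]
      refine dvd_pow_self 2 fun e => hz1 (orderOf_eq_one_iff.1 ?_)
      rw [hk, e, pow_zero])
    exact ⟨v, hv, by rwa [Subgroup.orderOf_mk] at hvo⟩
  have hz'W : z' ∈ W := (Subgroup.zpowers_le.2 z.2) hz'mem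
  have hfix' : ∀ g ∈ T, Commute z' g := fun g hg => by
    obtain ⟨i, rfl⟩ := hz'mem
    exact (hfix g hg).zpow_left i
  obtain ⟨zM, hzS, hzM⟩ := hz'W
  refine ⟨z', hzM ▸ zM.2, hz'o, hfix' t (Subgroup.mem_sup_right (Subgroup.mem_zpowers t)), ?_⟩
  set K := Subgroup.centralizer ({zM} : Set M) with hK
  suffices K = ⊤ by
    intro m hm
    have h1 : (⟨m, hm⟩ : M) ∈ K := this ▸ Subgroup.mem_top _
    rw [hK, Subgroup.mem_centralizer_singleton_iff] at h1
    rw [← hzM]
    exact (congrArg Subtype.val h1).symm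
  rw [← Subgroup.index_eq_one]
  by_contra hidx
  obtain ⟨r, hr, hrdvd⟩ := Nat.exists_prime_and_dvd hidx
  haveI := Fact.mk hr
  obtain ⟨R⟩ : Nonempty (Sylow r M) := inferInstance
  have hRK : (R : Subgroup M) ≤ K := by
    intro v hv
    rw [hK, Subgroup.mem_centralizer_singleton_iff]
    by_cases hr2 : r = 2
    · subst hr2
      haveI := Sylow.unique_of_normal S inferInstance
      have hvW : (v : G) ∈ W := ⟨v, Subsingleton.elim R S ▸ hv, rfl⟩
      have := hfix' _ (Subgroup.mem_sup_left (T := Subgroup.zpowers t) hvW)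
      rw [← hzM] at this
      exact Subtype.ext this.eq.symm
    · have hdis : Disjoint (R : Subgroup M) (S : Subgroup M) := IsPGroup.disjoint_of_ne r 2 hr2 _ _ R.2 S.2
      have hnR : (R : Subgroup M).Normal := inferInstance
      exact (Subgroup.commute_of_normal_of_disjoint _ _ hnR hSn hdis _ _ hv hzS).eq
  exact R.not_dvd_index (hrdvd.trans (Subgroup.index_dvd_of_le hRK))

/-- The contribution of the members of even order normalised by `t`. -/
theorem Ctx.even_sum (C : Ctx G x t) [Fintype (Subgroup G)] [DecidablePred (IsMax x)] [DecidablePred (IsPool t)]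
    (hinv : ∀ u : G, orderOf u = 2 → IsConj t u) :
    ∃ R : ℕ, 2 * (R * R) ≤ Nat.card (Subgroup.centralizer ({t} : Set G)) ∧
      2 * ∑ M ∈ (univ.filter (IsMax x)).filter (fun M => ¬ IsPool t M), (Nat.card M - 1) ≤
        (R + 1) * (Nat.card (Subgroup.centralizer ({t} : Set G)) - 2) := by
  classical
  haveI := Fintype.ofFinite G
  set F := (univ.filter (IsMax x)).filter (fun M => ¬ IsPool t M) with hF
  have hmem : ∀ M ∈ F, IsMax x M ∧ t ∈ Subgroup.normalizer (M : Set G) ∧ 2 ∣ Nat.card M := fun M hM => by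
    simp only [hF, IsPool, mem_filter, mem_univ, true_and, not_or, not_not, Nat.not_odd_iff_even] at hM
    exact ⟨hM.1, hM.2.1, hM.2.2.two_dvd⟩
  set Z := Subgroup.centralizer ({t} : Set G) with hZ
  let c : Subgroup G → ℕ := fun M => Nat.card ↥(M ⊓ Z)
  have hcsq : ∀ M ∈ F, Nat.card M = c M * c M := fun M hM => by
    rw [C.card_sq (hmem M hM).1 (hmem M hM).2.1, pow_two]
  have hsmall : ∀ M ∈ F, 2 * (c M * c M) ≤ Nat.card Z := by
    intro M hM
    obtain ⟨hMx, htM, he⟩ := hmem M hM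
    obtain ⟨z, hzM, hzo, hzt, hzc⟩ := C.exists_central hMx htM he
    obtain ⟨g, hg⟩ := isConj_iff.1 (hinv z hzo)
    set Cz := Subgroup.centralizer ({z} : Set G)
    have hMC : M ≤ Cz := fun m hm => Subgroup.mem_centralizer_singleton_iff.2 (hzc m hm).eq.symm
    have htC : t ∈ Cz := Subgroup.mem_centralizer_singleton_iff.2 hzt.eq.symm
    have hcard : Nat.card Cz = Nat.card Z := by
      refine (Nat.card_congr ((MulAut.conj g).toEquiv.subtypeEquiv fun v => ?_)).symm
      show v ∈ Z ↔ g * v * g⁻¹ ∈ Cz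
      rw [Subgroup.mem_centralizer_singleton_iff, Subgroup.mem_centralizer_singleton_iff, ← hg]
      constructor
      · intro h
        calc g * v * g⁻¹ * (g * t * g⁻¹) = g * (v * t) * g⁻¹ := by group
          _ = g * (t * v) * g⁻¹ := by rw [h]
          _ = _ := by group
      · intro h
        calc v * t = g⁻¹ * (g * v * g⁻¹ * (g * t * g⁻¹)) * g := by group
          _ = g⁻¹ * ((g * t * g⁻¹) * (g * v * g⁻¹)) * g := by rw [h]
          _ = t * v := by group
    have h1 : Nat.card M * M.relIndex Cz = Nat.card Cz := by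
      rw [← Subgroup.relIndex_bot_left, Subgroup.relIndex_mul_relIndex _ _ _ bot_le hMC, Subgroup.relIndex_bot_left]
    have h2 : M.relIndex Cz ≠ 1 := fun e => C.t_not_mem hMx (Subgroup.relIndex_eq_one.1 e htC)
    have h3 : 0 < Nat.card Cz := Nat.card_pos
    rw [← hcsq M hM, ← hcard, ← h1, mul_comm 2]
    refine Nat.mul_le_mul_left _ ?_
    rcases Nat.eq_zero_or_pos (M.relIndex Cz) with e | e
    · rw [e, mul_zero] at h1; omega
    · omega
  refine ⟨F.sup c, ?_, ?_⟩
  · rcases F.eq_empty_or_nonempty with h | h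
    · simp [h]
    · obtain ⟨M, hM, e⟩ := exists_mem_eq_sup F h c
      rw [e]; exact hsmall M hM
  -- the fixed points give disjoint subsets of the centraliser
  let A : Subgroup G → Finset G := fun M => (univ.filter (fun v => v ∈ M ⊓ Z)).erase 1
  let B : Subgroup G → Finset G := fun M => (A M).image (t * ·)
  have htZ : t ∈ Z := Subgroup.mem_centralizer_singleton_iff.2 rfl
  have hA : ∀ {M v}, v ∈ A M ↔ v ≠ 1 ∧ v ∈ M ∧ v ∈ Z := by simp [A]
  have hB : ∀ {M v}, v ∈ B M ↔ ∃ w ∈ A M, t * w = v := fun {M v} => mem_image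
  have hdisj : ∀ M ∈ F, ∀ M' ∈ F, M ≠ M' → M ⊓ M' = ⊥ := fun M hM M' hM' hne => by
    by_contra h
    exact C.meet_types M M' (hmem M hM).1 (hmem M' hM').1 hne h (hmem M hM).2.1
  have hcross : ∀ M ∈ F, ∀ M' ∈ F, Disjoint (A M) (B M') := by
    intro M hM M' hM'
    rw [Finset.disjoint_left]
    intro v hv hv'
    obtain ⟨w, hw, rfl⟩ := hB.1 hv'
    obtain ⟨-, hvM, -⟩ := hA.1 hv
    obtain ⟨hw1, hwM, -⟩ := hA.1 hw
    by_cases hMM : M = M'
    · subst hMM
      exact C.t_not_mem (hmem M hM).1 (by simpa using M.mul_mem hvM (M.inv_mem hwM))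
    set N := Subgroup.normalizer (M' : Set G)
    have hinv' : InvThree x (M ⊓ N) := (hmem M hM).1.1.inf fun k hk =>
      N.mul_mem (N.mul_mem (hmem M' hM').1.1.mem_normalizer hk) (N.inv_mem (hmem M' hM').1.1.mem_normalizer)
    have hle := C.le_max (hmem M' hM').1 hinv' inf_le_right
    have h1 : t * w ∈ M' := hle ⟨hvM, N.mul_mem (hmem M' hM').2.1 (Subgroup.le_normalizer hwM)⟩
    exact C.t_not_mem (hmem M' hM').1 (by simpa using M'.mul_mem h1 (M'.inv_mem hwM))
  have hAA : (F : Set (Subgroup G)).PairwiseDisjoint A := by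
    intro M hM M' hM' hne
    rw [Function.onFun, Finset.disjoint_left]
    intro v hv hv'
    exact (hA.1 hv).1 (Subgroup.mem_bot.1 (hdisj M hM M' hM' hne ▸ ⟨(hA.1 hv).2.1, (hA.1 hv').2.1⟩))
  have hBB : (F : Set (Subgroup G)).PairwiseDisjoint B := fun M hM M' hM' hne =>
    (Finset.disjoint_image (mul_right_injective t)).2 (hAA hM hM' hne)
  have hAcard : ∀ M, (A M).card = c M - 1 := fun M => by
    rw [card_erase_of_mem (by simp), ← Fintype.card_subtype, ← Nat.card_eq_fintype_card]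
  have hsub : F.biUnion A ∪ F.biUnion B ⊆ ((univ.filter (· ∈ Z)).erase 1).erase t := by
    intro v hv
    simp only [mem_union, mem_biUnion] at hv
    simp only [mem_erase, mem_filter, mem_univ, true_and]
    rcases hv with ⟨M, hM, hv⟩ | ⟨M, hM, hv⟩
    · obtain ⟨h1, h2, h3⟩ := hA.1 hv
      exact ⟨fun e => C.t_not_mem (hmem M hM).1 (e ▸ h2), h1, h3⟩
    · obtain ⟨w, hw, rfl⟩ := hB.1 hv
      obtain ⟨h1, h2, h3⟩ := hA.1 hw
      exact ⟨fun e => h1 (mul_eq_left.1 e),
        fun e => C.t_not_mem (hmem M hM).1 ((eq_inv_of_mul_eq_one_left e) ▸ M.inv_mem h2),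
        Z.mul_mem htZ h3⟩
  have hcard := card_le_card hsub
  have htne : t ≠ 1 := (C.sc.inverter C.inv).2
  rw [card_union_of_disjoint (by
      simp only [Finset.disjoint_biUnion_left, Finset.disjoint_biUnion_right]
      exact fun M hM M' hM' => hcross M' hM' M hM),
    card_biUnion hAA, card_biUnion hBB,
    card_erase_of_mem (by simp [htne, htZ]), card_erase_of_mem (by simp),
    ← Fintype.card_subtype, ← Nat.card_eq_fintype_card] at hcard
  have hBcard : ∀ M, (B M).card = (A M).card := fun M => card_image_of_injective _ (mul_right_injective t)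
  simp only [hBcard, hAcard] at hcard
  calc 2 * ∑ M ∈ F, (Nat.card M - 1) ≤ 2 * ∑ M ∈ F, (F.sup c + 1) * (c M - 1) := by
        refine Nat.mul_le_mul_left _ (sum_le_sum fun M hM => ?_)
        rw [hcsq M hM]
        have h1 : c M ≤ F.sup c := le_sup hM
        have h2 : 1 ≤ c M := Nat.card_pos
        obtain ⟨d, hd⟩ : ∃ d, c M = d + 1 := ⟨c M - 1, by omega⟩
        rw [hd] at h1 ⊢
        simp only [Nat.add_sub_cancel]
        rw [show (d + 1) * (d + 1) = (d + 2) * d + 1 by ring, Nat.add_sub_cancel]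
        exact Nat.mul_le_mul_right _ (by omega)
    _ = (F.sup c + 1) * (∑ M ∈ F, (c M - 1) + ∑ M ∈ F, (c M - 1)) := by rw [← mul_sum]; ring
    _ ≤ _ := Nat.mul_le_mul_left _ (le_trans hcard (by rw [Nat.sub_sub]))

/-- The finite check, in the original variables. -/
theorem numeric_check {a s Z : ℕ} {c : ℤ} (ha4 : 4 ≤ a) (ha3 : a % 3 = 1) (hs3 : s % 3 ≠ 0) (hca : c < a)
    (hac : -(a : ℤ) ≤ c) (hZ : (Z : ℤ) = ((a : ℤ) - c) * s) (hC : 1 + c ^ 2 + (1 + c) ^ 2 ≤ (Z : ℤ))
    (hZ4 : 4 ∣ Z) (hdvd : Z ∣ 3 * (a * (a + 1) * s * s)) (hodd : 3 * (a * (a + 1) * s * s) / Z % 2 = 1)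
    (hu : a * s < 67) (hrow : 4480 % (a * (a + 1) * s * s) = 0 ∨ ∃ R < 9, 2 * (R * R) ≤ Z ∧
      10 * (a * (a + 1) * s * s) + 22 * (s * s) ≤ 1254 + 33 * (R + 1) * (Z - 2)) :
    3 * (a * (a + 1) * s * s) = 60 ∨ 3 * (a * (a + 1) * s * s) = 168 := by
  have hspos : 0 < s := by omega
  have ha : a < 67 := lt_of_le_of_lt (Nat.le_mul_of_pos_right a hspos) hu
  have hs17 : s < 17 := by
    have := Nat.mul_le_mul_right s ha4
    omega
  have hZ2 : (Z : ℤ) ≤ 132 := by
    have h1 : ((a : ℤ) * s) ≤ 66 := by exact_mod_cast (show a * s ≤ 66 by omega)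
    have h2 : ((a : ℤ) - c) * s ≤ (2 * a) * s := mul_le_mul_of_nonneg_right (by omega) (by positivity)
    rw [hZ]
    linarith
  have h1 : 1 + c ^ 2 + (1 + c) ^ 2 ≤ 132 := le_trans hC hZ2
  have hc1 : -8 ≤ c ∧ c ≤ 7 := by
    constructor <;> by_contra h <;> push Not at h
    · nlinarith [mul_nonneg (show (0 : ℤ) ≤ -9 - c by omega) (show (0 : ℤ) ≤ -9 - c by omega)]
    · nlinarith [mul_nonneg (show (0 : ℤ) ≤ c - 8 by omega) (show (0 : ℤ) ≤ c - 8 by omega)]
  obtain ⟨j, hj⟩ : ∃ j : ℕ, (j : ℤ) = c + 8 := ⟨(c + 8).toNat, Int.toNat_of_nonneg (by omega)⟩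
  obtain rfl : c = (j : ℤ) - 8 := by omega
  have hZ' : (a + 8 - j) * s = Z := by
    have h2 : (((a + 8 - j) * s : ℕ) : ℤ) = Z := by
      rw [hZ, Nat.cast_mul, Nat.cast_sub (by omega)]
      push_cast; ring
    exact_mod_cast h2
  refine enum_rows a ha s hs17 j (by omega)
    ⟨ha4, ha3, hs3, by omega, by omega, ?_, ?_, ?_, ?_, ?_⟩ <;> rw [hZ']
  · have e1 : ((j * j + 64 - 16 * j : ℕ) : ℤ) = ((j : ℤ) - 8) ^ 2 := by
      rw [Nat.cast_sub (by nlinarith [sq_nonneg ((j : ℤ) - 8)])]; push_cast; ring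
    have e2 : ((j * j + 49 - 14 * j : ℕ) : ℤ) = (1 + ((j : ℤ) - 8)) ^ 2 := by
      rw [Nat.cast_sub (by nlinarith [sq_nonneg ((j : ℤ) - 7)])]; push_cast; ring
    rw [← Nat.cast_le (α := ℤ), Nat.cast_add, Nat.cast_add, e1, e2]
    exact_mod_cast hC
  · omega
  · exact Nat.mod_eq_zero_of_dvd hdvd
  · exact hodd
  · exact hrow

/-- The product of the two parameters is bounded. -/
theorem product_bound {u P R Z K : ℕ} (hu2 : u * u ≤ P) (hR : R * R ≤ u) (hZ : Z ≤ 2 * u)
    (htot : 10 * P + K ≤ 1254 + 33 * (R + 1) * (Z - 2)) : u < 64 := by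
  by_contra hu
  push Not at hu
  have h2 : 33 * (R + 1) * (Z - 2) ≤ 33 * (R + 1) * (2 * u) := Nat.mul_le_mul_left _ (by omega)
  have h3 : 16 * R ≤ u + 64 := by nlinarith [mul_self_nonneg ((R : ℤ) - 8)]
  nlinarith [Nat.mul_le_mul_left u h3, Nat.mul_le_mul_left u hu]

set_option maxHeartbeats 1000000 in
/-- The order of the group is sixty or one hundred and sixty eight. -/
theorem Ctx.card_simple (C : Ctx G x t) : Nat.card G = 60 ∨ Nat.card G = 168 := by
  classical
  haveI := Fintype.ofFinite G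
  haveI := Fintype.ofFinite (Subgroup G)
  haveI := C.simple
  obtain ⟨a, c, ha3, ha4, hinv, hrel, hca, hac, hC, hN⟩ := char_data C.sc C.inv
  set Z := Nat.card (Subgroup.centralizer ({t} : Set G)) with hZ
  obtain ⟨h3G, h9G⟩ := C.sc.three_dvd
  -- `a (a+1)` divides the order
  set b := a * (a + 1) with hb
  have hb3 : b % 3 = 2 := by rw [hb, Nat.mul_mod, Nat.add_mod, ha3]
  have hbdvd : b ∣ Nat.card G := by
    have h1 : b ∣ Nat.card G * (b + 1) :=
      ⟨9 * Nat.card {p : G × G // orderOf p.1 = 3 ∧ orderOf p.2 = 3 ∧ p.1 * p.2 = x}, by rw [← hN]; ring⟩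
    exact (Nat.Coprime.dvd_of_dvd_mul_right (by rw [Nat.coprime_self_add_right]; exact Nat.coprime_one_right b) h1)
  have h3b : 3 * b ∣ Nat.card G :=
    Nat.Coprime.mul_dvd_of_dvd_of_dvd ((Nat.Prime.coprime_iff_not_dvd Nat.prime_three).2 (by omega)) h3G hbdvd
  obtain ⟨k, hk⟩ := h3b
  have hbpos : 0 < b := by rw [hb]; positivity
  have hkrel : (k : ℤ) * ((a : ℤ) - c) ^ 2 = (Z : ℤ) ^ 2 := by
    have hb' : (a : ℤ) * (a + 1) = (b : ℤ) := by rw [hb]; push_cast; ring
    rw [hk, hb'] at hrel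
    push_cast at hrel
    have h0 : (3 : ℤ) * (b : ℤ) ≠ 0 := by positivity
    apply mul_left_cancel₀ h0
    linear_combination hrel
  obtain ⟨d, hd⟩ : ∃ d : ℕ, (d : ℤ) = (a : ℤ) - c := ⟨((a : ℤ) - c).toNat, Int.toNat_of_nonneg (by omega)⟩
  have hkd : k * d ^ 2 = Z ^ 2 := by rw [← hd] at hkrel; exact_mod_cast hkrel
  obtain ⟨s, hs⟩ : d ∣ Z := (Nat.pow_dvd_pow_iff two_ne_zero).1 (Dvd.intro_left _ hkd)
  have hdpos : 0 < d := by omega
  have hks : k = s * s := by
    rw [hs] at hkd
    apply Nat.eq_of_mul_eq_mul_right (pow_pos hdpos 2)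
    rw [hkd]; ring
  set P := a * (a + 1) * s * s with hP
  have hGP : Nat.card G = 3 * P := by rw [hk, hks, hP, hb]; ring
  have hs3 : s % 3 ≠ 0 := fun e => h9G (by
    obtain ⟨r, rfl⟩ := Nat.dvd_of_mod_eq_zero e
    exact ⟨3 * (b * (r * r)), by rw [hk, hks]; ring⟩)
  have hPmod : P % 3 = 2 := by
    rw [hP, ← hb]
    have h1 : s % 3 = 1 ∨ s % 3 = 2 := by omega
    rcases h1 with e | e <;> simp [Nat.mul_mod, hb3, e]
  have hspos : 0 < s := by omega
  -- the Sylow two subgroup
  obtain ⟨hZ4, hZdvd, hZodd⟩ : 4 ∣ Z ∧ Z ∣ Nat.card G ∧ (Nat.card G / Z) % 2 = 1 := by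
    haveI := Fact.mk Nat.prime_two
    obtain ⟨ht2, ht1⟩ := C.sc.inverter C.inv
    have hto : orderOf t = 2 := orderOf_eq_prime ht2 ht1
    have h2G : 2 ∣ Nat.card G := hto ▸ orderOf_dvd_natCard t
    obtain ⟨T⟩ : Nonempty (Sylow 2 G) := inferInstance
    haveI : Nontrivial (T : Subgroup G) := by
      rw [← Finite.one_lt_card_iff_nontrivial]
      exact lt_of_lt_of_le one_lt_two (Nat.le_of_dvd Nat.card_pos (T.dvd_card_of_dvd_card h2G))
    haveI := T.2.center_nontrivial
    obtain ⟨⟨z0, hz0⟩, hz01⟩ := exists_ne (1 : Subgroup.center (T : Subgroup G))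
    obtain ⟨⟨⟨z, hzT⟩, hzc⟩, hzo⟩ := exists_prime_orderOf_dvd_card' (G := Subgroup.center (T : Subgroup G)) 2 (by
      obtain ⟨j, hj⟩ := IsPGroup.iff_card.1 (T.2.to_subgroup (Subgroup.center (T : Subgroup G)))
      rw [hj]
      refine dvd_pow_self 2 fun e => ?_
      rw [e, pow_zero] at hj
      exact hz01 ((Nat.card_eq_one_iff_unique.1 hj).1.elim _ _))
    rw [Subgroup.orderOf_mk, Subgroup.orderOf_mk] at hzo
    obtain ⟨g, hg⟩ := isConj_iff.1 (hinv z hzo)
    have hle : Nat.card (T : Subgroup G) ∣ Z := by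
      rw [← Subgroup.card_map_of_injective (f := (MulAut.conj g⁻¹).toMonoidHom) (MulAut.conj g⁻¹).injective]
      refine Subgroup.card_dvd_of_le ?_
      rintro _ ⟨v, hv, rfl⟩
      show g⁻¹ * v * g⁻¹⁻¹ ∈ _
      have h1 : v * z = z * v := congrArg Subtype.val (Subgroup.mem_center_iff.1 hzc ⟨v, hv⟩)
      rw [Subgroup.mem_centralizer_singleton_iff]
      calc g⁻¹ * v * g⁻¹⁻¹ * t = g⁻¹ * (v * (g * t * g⁻¹)) * g := by group
        _ = g⁻¹ * ((g * t * g⁻¹) * v) * g := by rw [hg, h1]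
        _ = t * (g⁻¹ * v * g⁻¹⁻¹) := by group
    have hdvd : Z ∣ Nat.card G := Subgroup.card_subgroup_dvd_card _
    have h4 : 4 ∣ Nat.card G := by
      by_contra h
      obtain ⟨m, hm⟩ := h2G
      refine Cfsg.Lib.Recog.DegreeTwoModFour.not_two_mul_odd_of_simple ?_ (m := m) ?_ hm
      · intro hab
        have h2 : t * x = x * t := mul_comm' (M := G) t x
        have h3 : x⁻¹ = x := by
          rw [← C.inv, h2, mul_inv_cancel_right]
        exact C.sc.ne_one (by
          have e2 : x * x = 1 := by nth_rewrite 1 [← h3]; exact inv_mul_cancel x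
          calc x = x ^ 3 * (x * x)⁻¹ := by group
            _ = 1 := by rw [C.sc.pow_three, e2, inv_one, mul_one])
      · rw [Nat.odd_iff]
        rcases Nat.mod_two_eq_zero_or_one m with e | e
        · exact absurd (by rw [hm]; omega) h
        · exact e
    refine ⟨(T.pow_dvd_card_of_pow_dvd_card (n := 2) h4).trans hle, hdvd, ?_⟩
    rcases Nat.mod_two_eq_zero_or_one (Nat.card G / Z) with e | e
    · exfalso
      obtain ⟨j, hj⟩ := IsPGroup.iff_card.1 T.2
      have h5 : 2 ^ (j + 1) ∣ Nat.card G := by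
        rw [← Nat.mul_div_cancel' hdvd, pow_succ]
        exact mul_dvd_mul (hj ▸ hle) (Nat.dvd_of_mod_eq_zero e)
      have h6 := T.pow_dvd_card_of_pow_dvd_card h5
      rw [hj] at h6
      exact absurd (Nat.le_of_dvd (pow_pos two_pos _) h6) (not_le.2 (Nat.pow_lt_pow_right one_lt_two (Nat.lt_succ_self j)))
    · exact e
  have hZ2 : Z ≤ 2 * (a * s) := by
    rw [hs, ← mul_assoc]
    exact Nat.mul_le_mul_right _ (by omega)
  have hu2 : (a * s) * (a * s) ≤ P := by rw [hP]; nlinarith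
  -- finish through the finite check
  have final : a * s < 67 → (4480 % P = 0 ∨ ∃ R < 9, 2 * (R * R) ≤ Z ∧
      10 * P + 22 * (s * s) ≤ 1254 + 33 * (R + 1) * (Z - 2)) → Nat.card G = 60 ∨ Nat.card G = 168 := by
    intro hu hrow
    rw [hGP, hP]
    exact numeric_check ha4 ha3 hs3 hca hac (by rw [hs, Nat.cast_mul, hd]) hC hZ4 (by rw [← hP, ← hGP]; exact hZdvd)
      (by rw [← hP, ← hGP]; exact hZodd) hu hrow
  by_cases hn : ∀ M : Subgroup G, IsMax x M → 8 < (Subgroup.normalizer (M : Set G)).index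
  · obtain ⟨R, hR, hev⟩ := C.even_sum hinv
    rw [← hZ] at hR hev
    have hpool := C.pool_sum hGP hPmod hn
    have hpairs := C.pairs_le
    set N := Nat.card {p : G × G // orderOf p.1 = 3 ∧ orderOf p.2 = 3 ∧ p.1 * p.2 = x}
    rw [← sum_filter_add_sum_filter_not (univ.filter (IsMax x)) (IsPool t)] at hpairs
    have hNk : 3 * N = (b + 1) * k := by
      apply Nat.eq_of_mul_eq_mul_right (show 0 < 3 * b by positivity)
      calc 3 * N * (3 * b) = N * (9 * (a * (a + 1))) := by rw [← hb]; ring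
        _ = 3 * b * k * (b + 1) := by rw [hN, hk, hb]
        _ = _ := by ring
    have hPk : P = b * k := by rw [hP, hks, hb]; ring
    rw [hks] at hNk hPk
    have htot : 10 * P + 22 * (s * s) ≤ 1254 + 33 * (R + 1) * (Z - 2) := by
      rw [add_one_mul] at hNk
      linarith only [hpairs, hpool, hev, hNk, hPk]
    have hR2 : R * R ≤ a * s := by omega
    have hu : a * s < 64 := product_bound hu2 hR2 hZ2 htot
    exact final (by omega) (Or.inr ⟨R, by nlinarith, hR, htot⟩)
  · push Not at hn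
    obtain ⟨M, hM, hi⟩ := hn
    have hdvd := (Cfsg.Lib.OrderLeHundred.card_dvd_factorial_index (C.normalizer_ne_top hM.2.1 hM.1.2)).1
    have h40 : Nat.factorial 8 = 3 * 13440 := by norm_num [Nat.factorial]
    have h8 := hdvd.trans (Nat.factorial_dvd_factorial hi)
    rw [hGP, h40] at h8
    have h1 : P ∣ 3 * 4480 := Nat.dvd_of_mul_dvd_mul_left (by norm_num) h8
    have h2 : P ∣ 4480 :=
      Nat.Coprime.dvd_of_dvd_mul_left (((Nat.Prime.coprime_iff_not_dvd Nat.prime_three).2 (by omega)).symm) h1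
    have h3 : P ≤ 4480 := Nat.le_of_dvd (by norm_num) h2
    have hu : a * s < 67 := by
      by_contra hu
      have := Nat.mul_le_mul (not_lt.1 hu) (not_lt.1 hu)
      omega
    exact final hu (Or.inl (Nat.mod_eq_zero_of_dvd h2))

end Cfsg.Lib.Recog.SelfThree
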