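import Cfsg.Agent.Lib.Recog.SelfThree.Local

/-!
# Intersections of maximal invariant subgroups and the members normalised by an inverting involution
-/

set_option autoImplicit false
set_option linter.style.haveILetI false
set_option linter.unusedSectionVars false

namespace Cfsg.Lib.Recog.SelfThree

universe u

variable {G : Type u} [Group G] [Finite G] {x t : G}

theorem InvThree.inf {K L : Subgroup G} (hK : InvThree x K) (hL : ∀ k ∈ L, x * k * x⁻¹ ∈ L) :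
    InvThree x (K ⊓ L) :=
  ⟨fun k hk => ⟨hK.1 k hk.1, hL k hk.2⟩, fun h => hK.2 (h.trans (Subgroup.card_dvd_of_le inf_le_left))⟩

/-- Two meeting maximal invariant subgroups are not normalised by `t`. -/
theorem Ctx.meet_types (C : Ctx G x t) :
    ∀ M M' : Subgroup G, IsMax x M → IsMax x M' → M ≠ M' → M ⊓ M' ≠ ⊥ →
      t ∉ Subgroup.normalizer (M : Set G) := by
  suffices key : ∀ n : ℕ, ∀ M M' : Subgroup G, IsMax x M → IsMax x M' → M ≠ M' → M ⊓ M' ≠ ⊥ →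
      Nat.card G - Nat.card ↥(M ⊓ M') = n →
      t ∉ Subgroup.normalizer (M : Set G) ∧ t ∉ Subgroup.normalizer (M' : Set G) from
    fun M M' h1 h2 h3 h4 => (key _ M M' h1 h2 h3 h4 rfl).1
  intro n
  induction n using Nat.strong_induction_on with
  | _ n ih =>
  intro M M' hM hM' hne hI hn
  subst hn
  set I := M ⊓ M' with hIdef
  have hIinv : InvThree x I := hM.1.inf hM'.1.1
  set H := Subgroup.normalizer (I : Set G) with hH
  have hx : x ∈ H := hIinv.mem_normalizer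
  -- proper normalisers inside the two members
  have hgrow : ∀ L L' : Subgroup G, IsMax x L → IsMax x L' → L ≠ L' → I = L ⊓ L' →
      I < L ⊓ H := by
    intro L L' hL hL' hne' hI'
    haveI : Group.IsNilpotent L := C.sc.nilpotent hL.1
    have hIL : I ≤ L := hI' ▸ inf_le_left
    have hlt : I.subgroupOf L < ⊤ := lt_top_iff_ne_top.2 fun e => hne' ((hL.2.2 L' hL'.1 fun g hg => by
      have := e.symm.le (Subgroup.mem_top (⟨g, hg⟩ : L))
      exact (hI'.le this).2).symm)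
    obtain ⟨v, hv, hvI⟩ := SetLike.exists_of_lt (Group.normalizerCondition_of_isNilpotent _ hlt)
    refine lt_of_le_not_ge (le_inf hIL Subgroup.le_normalizer) fun hle => hvI (hle ⟨v.2, ?_⟩)
    refine Subgroup.mem_normalizer_iff.2 fun w => ⟨fun hw => ?_, fun hw => ?_⟩
    · exact (Subgroup.mem_normalizer_iff.1 hv ⟨w, hIL hw⟩).1 hw
    · have hwL : w ∈ L := by
        have := L.mul_mem (L.mul_mem (L.inv_mem v.2) (hIL hw)) v.2
        simpa [mul_assoc] using this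
      exact (Subgroup.mem_normalizer_iff.1 hv ⟨w, hwL⟩).2 hw
  have hg1 : I < M ⊓ H := hgrow M M' hM hM' hne rfl
  have hg2 : I < M' ⊓ H := hgrow M' M hM' hM hne.symm (inf_comm M M')
  have hrec : ∀ L L' : Subgroup G, IsMax x L → IsMax x L' → L ≠ L' → I < L ⊓ L' →
      t ∉ Subgroup.normalizer (L : Set G) ∧ t ∉ Subgroup.normalizer (L' : Set G) := by
    intro L L' hL hL' hne' hlt
    have hc : Nat.card I < Nat.card ↥(L ⊓ L') := by
      by_contra hh
      exact hlt.ne (Subgroup.eq_of_le_of_card_ge hlt.le (not_lt.1 hh))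
    have hG : Nat.card ↥(L ⊓ L') ≤ Nat.card G := Subgroup.card_le_card_group _
    exact ih _ (by omega) L L' hL hL' hne' (fun e => by rw [e] at hlt; exact not_lt_bot hlt) rfl
  have hI3 := hIinv.2
  rcases C.sub H (C.normalizer_ne_top hI hI3) hx with ⟨N, hN, hN3, hidx⟩ | ⟨E, hE, hE3, hE2, ⟨e⟩⟩ | ⟨hs, -⟩
  · haveI := hN
    have hsc := C.sc.subtype hx
    have hidx' : N.relIndex ⊤ = 3 ∨ N.relIndex ⊤ = 6 := by rwa [Subgroup.relIndex_top_right]
    have hle : ∀ L : Subgroup G, IsMax x L → L ⊓ H ≤ N.map H.subtype := by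
      intro L hL v hv
      have hinv : InvThree x (L ⊓ H) := hL.1.inf fun k hk => H.mul_mem (H.mul_mem hx hk) (H.inv_mem hx)
      exact ⟨⟨v, hv.2⟩, hsc.small_quot (H := ⊤) (Subgroup.mem_top _) le_top
        (by rw [Subgroup.normalizer_eq_top]) hidx' hN3 (hinv.subgroupOf hx inf_le_right) le_top
        (show (⟨v, hv.2⟩ : H) ∈ (L ⊓ H).subgroupOf H from hv), rfl⟩
    have hNinv : InvThree x (N.map H.subtype) := by
      refine ⟨?_, by rwa [Subgroup.card_map_of_injective (f := H.subtype) H.subtype_injective]⟩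
      rintro _ ⟨v, hv, rfl⟩
      exact ⟨⟨x, hx⟩ * v * ⟨x, hx⟩⁻¹, hN.conj_mem v hv _, rfl⟩
    have hNne : N.map H.subtype ≠ ⊥ := fun e => by
      have := (hle M hM).trans_eq e
      exact not_lt_bot (lt_of_lt_of_le hg1 this)
    obtain ⟨M₂, hM₂, hNM₂⟩ := exists_max hNinv hNne
    have h1 : M ≠ M₂ := by
      rintro rfl
      exact hg2.not_ge (le_inf ((hle M' hM').trans hNM₂) inf_le_left |>.trans le_rfl)
    have h2 : M' ≠ M₂ := by
      rintro rfl
      exact hg1.not_ge (le_inf inf_le_left ((hle M hM).trans hNM₂))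
    have h3 := hrec M M₂ hM hM₂ h1 (lt_of_lt_of_le hg1 (le_inf inf_le_left ((hle M hM).trans hNM₂)))
    have h4 := hrec M' M₂ hM' hM₂ h2 (lt_of_lt_of_le hg2 (le_inf inf_le_left ((hle M' hM').trans hNM₂)))
    exact ⟨h3.1, h4.1⟩
  · haveI := hE
    obtain ⟨π, hπ, hy, hk3, hk2, hwp, hnorm⟩ := C.a5_data hx hE3 hE2 e
    obtain ⟨w0, hw0, hw01⟩ := fact_exists
    -- `t` normalises `I`
    have htH : ∃ hth : t ∈ H, π ⟨t, hth⟩ * a0 * (π ⟨t, hth⟩)⁻¹ = a0⁻¹ := by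
      have hτ : ∃ τ : A5, τ * a0 * τ⁻¹ = a0⁻¹ := by
        refine ⟨⟨Equiv.swap 0 1 * Equiv.swap 3 4, by rw [Equiv.Perm.mem_alternatingGroup]; decide⟩, ?_⟩
        decide
      obtain ⟨τ, hτ⟩ := hτ
      obtain ⟨g, hg⟩ := hπ τ
      have hker : InvThree ((⟨x, hx⟩ : H)⁻¹) π.ker :=
        ⟨fun k hk => π.normal_ker.conj_mem k hk _, hk3⟩
      have hmem : g * ⟨x, hx⟩ * g⁻¹ * ((⟨x, hx⟩ : H)⁻¹)⁻¹ ∈ π.ker := by
        rw [MonoidHom.mem_ker, map_mul, map_mul, map_mul, map_inv, map_inv, map_inv, hg, hy, hτ, inv_inv, inv_mul_cancel]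
      obtain ⟨n, hn, e'⟩ := (C.sc.subtype hx).inv.conj_surj hker hmem
      have hinv : (n⁻¹ * g) * ⟨x, hx⟩ * (n⁻¹ * g)⁻¹ = (⟨x, hx⟩ : H)⁻¹ := by
        calc (n⁻¹ * g) * ⟨x, hx⟩ * (n⁻¹ * g)⁻¹ = n⁻¹ * (g * ⟨x, hx⟩ * g⁻¹) * n := by group
          _ = n⁻¹ * ((g * ⟨x, hx⟩ * g⁻¹ * ((⟨x, hx⟩ : H)⁻¹)⁻¹) * (⟨x, hx⟩ : H)⁻¹) * n := by group
          _ = _ := by rw [← e']; group
      have hinv' : (n⁻¹ * g).1 * x * (n⁻¹ * g).1⁻¹ = x⁻¹ := congrArg Subtype.val hinv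
      have htH : t ∈ H := by
        rcases C.sc.inverter_cases C.inv hinv' with e1 | e1 | e1
        · exact e1 ▸ (n⁻¹ * g).2
        · have h2 := H.mul_mem (n⁻¹ * g).2 (H.inv_mem hx)
          rwa [e1, mul_inv_cancel_right] at h2
        · have h2 := H.mul_mem (n⁻¹ * g).2 hx
          rwa [e1, inv_mul_cancel_right] at h2
      refine ⟨htH, ?_⟩
      rw [← hy, ← map_mul, ← map_inv, ← map_mul, ← map_inv]
      exact congrArg π (Subtype.ext C.inv)
    obtain ⟨htH, hτ⟩ := htH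
    -- any member containing the preimage of a four group is not normalised by `t`
    have hbig : ∀ w : A5, Wp w → w ≠ 1 → ∀ P : Subgroup H, (∀ k, π k ∈ four w ↔ k ∈ P) →
        ∀ L : Subgroup G, IsMax x L → P.map H.subtype ≤ L → t ∉ Subgroup.normalizer (L : Set G) := by
      intro w hw hw1 P hmem L hL hPL htL
      obtain ⟨u, hu⟩ := hπ w
      have huL : u.1 ∈ L := hPL ⟨u, (hmem u).1 (by rw [hu]; simp [four]), rfl⟩
      have hu'L : t * u.1 * t⁻¹ ∈ L := (Subgroup.mem_normalizer_iff.1 htL u.1).1 huL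
      have hinv : InvThree x (L ⊓ H) := hL.1.inf fun k hk => H.mul_mem (H.mul_mem hx hk) (H.inv_mem hx)
      have htu : t * u.1 * t⁻¹ ∈ H := H.mul_mem (H.mul_mem htH u.2) (H.inv_mem htH)
      have hprod := hwp (L ⊓ H) hinv (u.1 * (t * u.1 * t⁻¹)) (H.mul_mem u.2 htu)
        ⟨L.mul_mem huL hu'L, H.mul_mem u.2 htu⟩ inf_le_right
      refine fact_tau _ hτ w hw hw1 ?_
      have : (⟨u.1 * (t * u.1 * t⁻¹), H.mul_mem u.2 htu⟩ : H) = u * ((⟨t, htH⟩ : H) * u * (⟨t, htH⟩ : H)⁻¹) :=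
        Subtype.ext rfl
      rw [this, map_mul, map_mul, map_mul, map_inv, hu] at hprod
      exact hprod
    have hgen : ∀ L : Subgroup G, IsMax x L → I < L ⊓ H → t ∉ Subgroup.normalizer (L : Set G) := by
      intro L hL hlt
      have hinv : InvThree x (L ⊓ H) := hL.1.inf fun k hk => H.mul_mem (H.mul_mem hx hk) (H.inv_mem hx)
      have hsel : ∃ w : A5, Wp w ∧ w ≠ 1 ∧ ∀ v : H, v.1 ∈ L → π v ∈ four w := by
        by_cases hall : ∀ v : H, v.1 ∈ L → π v = 1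
        · exact ⟨w0, hw0, hw01, fun v hv => by rw [hall v hv]; simp [four]⟩
        push Not at hall
        obtain ⟨v0, hv0, hv01⟩ := hall
        refine ⟨π v0, hwp (L ⊓ H) hinv v0.1 v0.2 ⟨hv0, v0.2⟩ inf_le_right, hv01, fun v hv => ?_⟩
        refine fact_pair _ (hwp (L ⊓ H) hinv v0.1 v0.2 ⟨hv0, v0.2⟩ inf_le_right) hv01 _
          (hwp (L ⊓ H) hinv v.1 v.2 ⟨hv, v.2⟩ inf_le_right) ?_
        rw [← map_mul]
        exact hwp (L ⊓ H) hinv (v0 * v).1 (v0 * v).2 ⟨L.mul_mem hv0 hv, (v0 * v).2⟩ inf_le_right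
      obtain ⟨w, hw, hw1, hall⟩ := hsel
      obtain ⟨P, hP, hkP, hmem⟩ := exists_preimage (C.sc.subtype hx) hy hπ hk3 hw
      have hPinv : InvThree x (P.map H.subtype) := by
        refine ⟨?_, by rw [Subgroup.card_map_of_injective (f := H.subtype) H.subtype_injective]; exact hP.2⟩
        rintro _ ⟨v, hv, rfl⟩
        exact ⟨_, hP.1 v hv, rfl⟩
      have hPne : P.map H.subtype ≠ ⊥ := fun e' => by
        obtain ⟨u, hu⟩ := hπ w
        have h1 : u.1 = 1 := Subgroup.mem_bot.1 (e' ▸ ⟨u, (hmem u).1 (by rw [hu]; simp [four]), rfl⟩)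
        exact hw1 (by rw [← hu, show u = 1 from Subtype.ext h1, map_one])
      obtain ⟨L₂, hL₂, hPL₂⟩ := exists_max hPinv hPne
      have ht2 := hbig w hw hw1 P hmem L₂ hL₂ hPL₂
      have hsub : L ⊓ H ≤ L₂ := fun v hv => hPL₂ ⟨⟨v, hv.2⟩, (hmem _).1 (hall ⟨v, hv.2⟩ hv.1), rfl⟩
      by_cases hLL : L = L₂
      · exact hLL ▸ ht2
      · exact (hrec L L₂ hL hL₂ hLL (lt_of_lt_of_le hlt (le_inf inf_le_left hsub))).1
    exact ⟨hgen M hM hg1, hgen M' hM' hg2⟩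
  · exact (C.simple_absurd hx hs hI hI3 Subgroup.le_normalizer le_rfl).elim

theorem cube_identity {a b : G} (h : Commute a b) :
    a * b * b * (b * (a * b)⁻¹ * (a * b)⁻¹) ^ 2 = (a ^ 3)⁻¹ := by
  have hg : b * (a * b)⁻¹ * (a * b)⁻¹ = a⁻¹ * a⁻¹ * b⁻¹ := by
    calc b * (a * b)⁻¹ * (a * b)⁻¹ = a⁻¹ * (b⁻¹ * a⁻¹) := by group
      _ = a⁻¹ * a⁻¹ * b⁻¹ := by rw [h.inv_inv.symm.eq, mul_assoc]
  rw [hg, (h.inv_inv.mul_left h.inv_inv).mul_pow]
  have hc : Commute (b * b) ((a⁻¹ * a⁻¹) ^ 2) :=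
    ((h.symm.mul_left h.symm).inv_right.mul_right (h.symm.mul_left h.symm).inv_right).pow_right 2
  calc a * b * b * ((a⁻¹ * a⁻¹) ^ 2 * b⁻¹ ^ 2) = a * ((b * b) * (a⁻¹ * a⁻¹) ^ 2) * b⁻¹ ^ 2 := by group
    _ = (a ^ 3)⁻¹ := by rw [hc.eq]; group

/-- The fixed points of `t` in a member normalised by it. -/
theorem Ctx.card_sq (C : Ctx G x t) {M : Subgroup G} (hM : IsMax x M) (htM : t ∈ Subgroup.normalizer (M : Set G)) :
    Nat.card M = Nat.card ↥(M ⊓ Subgroup.centralizer ({t} : Set G)) ^ 2 := by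
  classical
  haveI := Fintype.ofFinite M
  set F := M ⊓ Subgroup.centralizer ({t} : Set G) with hF
  haveI := Fintype.ofFinite F
  obtain ⟨ht2, -⟩ := C.sc.inverter C.inv
  have htt : t⁻¹ = t := inv_eq_of_mul_eq_one_right (by rw [← pow_two]; exact ht2)
  have hfix : ∀ v : G, v ∈ Subgroup.centralizer ({t} : Set G) ↔ t * v * t⁻¹ = v := fun v => by
    rw [Subgroup.mem_centralizer_singleton_iff, mul_inv_eq_iff_eq_mul, eq_comm]
  have htm : ∀ v ∈ M, t * v * t⁻¹ ∈ M := fun v hv => (Subgroup.mem_normalizer_iff.1 htM v).1 hv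
  have htx : t * x = x⁻¹ * t := mul_inv_eq_iff_eq_mul.1 C.inv
  -- lower bound
  have hlow : Nat.card F * Nat.card F ≤ Nat.card M := by
    rw [← Nat.card_prod]
    refine Nat.card_le_card_of_injective
      (fun p : F × F => (⟨p.1.1 * (x * p.2.1 * x⁻¹), M.mul_mem p.1.2.1 (hM.1.1 _ p.2.2.1)⟩ : M)) ?_
    rintro ⟨p, q⟩ ⟨p', q'⟩ e
    have e' : p.1 * (x * q.1 * x⁻¹) = p'.1 * (x * q'.1 * x⁻¹) := congrArg Subtype.val e
    set d := q.1 * q'.1⁻¹ with hd
    have h1 : x * d * x⁻¹ = p.1⁻¹ * p'.1 := by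
      calc x * d * x⁻¹ = p.1⁻¹ * (p.1 * (x * q.1 * x⁻¹)) * (x * q'.1 * x⁻¹)⁻¹ := by rw [hd]; group
        _ = p.1⁻¹ * (p'.1 * (x * q'.1 * x⁻¹)) * (x * q'.1 * x⁻¹)⁻¹ := by rw [e']
        _ = p.1⁻¹ * p'.1 := by group
    have hdF : d ∈ F := F.mul_mem q.2 (F.inv_mem q'.2)
    have hxdF : x * d * x⁻¹ ∈ F := h1 ▸ F.mul_mem (F.inv_mem p.2) p'.2
    have h2 : x * d * x⁻¹ = x⁻¹ * d * x := by
      calc x * d * x⁻¹ = t * (x * d * x⁻¹) * t⁻¹ := ((hfix _).1 hxdF.2).symm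
        _ = (t * x * t⁻¹) * (t * d * t⁻¹) * (t * x * t⁻¹)⁻¹ := by group
        _ = x⁻¹ * d * x := by rw [C.inv, (hfix _).1 hdF.2, inv_inv]
    have h3 : x * d * x⁻¹ = d := by
      have h4 : x * (x * d * x⁻¹) * x⁻¹ = d := by rw [h2]; group
      calc x * d * x⁻¹ = x * (x * (x * d * x⁻¹) * x⁻¹) * x⁻¹ := by rw [h4]
        _ = (x * x * x) * d * (x * x * x)⁻¹ := by group
        _ = d := by rw [← pow_two, ← pow_succ, C.sc.pow_three]; group
    have hd1 : d = 1 := C.sc.fix_trivial hM.1.2 hdF.1 h3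
    have hq : q.1 = q'.1 := mul_inv_eq_one.1 hd1
    have hp : p.1 = p'.1 := by rw [hq] at e'; exact mul_right_cancel e'
    exact Prod.ext (Subtype.ext hp) (Subtype.ext hq)
  -- upper bound
  have hup : Nat.card M ≤ Nat.card F * Nat.card F := by
    let φ : M → M := fun v => ⟨t * v.1 * t⁻¹ * v.1⁻¹, M.mul_mem (htm _ v.2) (M.inv_mem v.2)⟩
    set J := Finset.univ.image φ with hJ
    have hfib : Fintype.card M ≤ Nat.card F * J.card := by
      rw [← Finset.card_univ]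
      refine Finset.card_le_mul_card_image Finset.univ (Nat.card F) fun b hb => ?_
      obtain ⟨v₀, -, rfl⟩ := Finset.mem_image.1 hb
      rw [Nat.card_eq_fintype_card, ← Finset.card_univ]
      refine Finset.card_le_card_of_injOn
        (fun a => if ha : v₀.1⁻¹ * a.1 ∈ F then (⟨_, ha⟩ : F) else 1) (fun _ _ => Finset.mem_univ _) ?_
      intro a ha a' ha' e
      have hmem : ∀ a : M, φ a = φ v₀ → v₀.1⁻¹ * a.1 ∈ F := fun a ha => by
        refine ⟨M.mul_mem (M.inv_mem v₀.2) a.2, (hfix _).2 ?_⟩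
        have e' : t * a.1 * t⁻¹ * a.1⁻¹ = t * v₀.1 * t⁻¹ * v₀.1⁻¹ := congrArg Subtype.val ha
        calc t * (v₀.1⁻¹ * a.1) * t⁻¹ = (t * v₀.1 * t⁻¹)⁻¹ * (t * a.1 * t⁻¹ * a.1⁻¹) * a.1 := by group
          _ = v₀.1⁻¹ * a.1 := by rw [e']; group
      simp only [Finset.coe_filter, Finset.mem_univ, true_and] at ha ha'
      simp only [dif_pos (hmem a ha), dif_pos (hmem a' ha')] at e
      have e2 : v₀.1⁻¹ * a.1 = v₀.1⁻¹ * a'.1 := congrArg Subtype.val e
      exact Subtype.ext (mul_left_cancel e2)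
    have hJF : J.card ≤ Nat.card F := by
      have hinvd : ∀ j ∈ J, t * j.1 * t⁻¹ = j.1⁻¹ := by
        intro j hj
        obtain ⟨v, -, rfl⟩ := Finset.mem_image.1 hj
        show t * (t * v.1 * t⁻¹ * v.1⁻¹) * t⁻¹ = (t * v.1 * t⁻¹ * v.1⁻¹)⁻¹
        calc _ = (t * t) * v.1 * (t * t)⁻¹ * (t * v.1 * t⁻¹)⁻¹ := by group
          _ = _ := by rw [← pow_two, ht2]; group
      have hid : ∀ j : M, j.1 * (x * j.1 * x⁻¹) * (x * (x * j.1 * x⁻¹) * x⁻¹) = 1 ∧ Commute j.1 (x * j.1 * x⁻¹) :=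
        fun j => C.sc.identities hM.1 j.2
      have hmemF : ∀ j ∈ J, j.1 * (x * j.1 * x⁻¹) * (x * j.1 * x⁻¹) ∈ F := by
        intro j hj
        obtain ⟨h1, h2⟩ := hid j
        set p := x * j.1 * x⁻¹ with hp
        set q := x * p * x⁻¹ with hq
        have hqe : q = (j.1 * p)⁻¹ := eq_inv_of_mul_eq_one_right h1
        have htp : t * p * t⁻¹ = q⁻¹ := by
          calc t * p * t⁻¹ = (t * x * t⁻¹) * (t * j.1 * t⁻¹) * (t * x * t⁻¹)⁻¹ := by rw [hp]; group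
            _ = x⁻¹ * j.1⁻¹ * x := by rw [C.inv, hinvd j hj, inv_inv]
            _ = (x⁻¹ * (x ^ 3) * j.1 * (x ^ 3)⁻¹ * x)⁻¹ := by rw [C.sc.pow_three]; group
            _ = q⁻¹ := by rw [hq, hp]; group
        refine ⟨M.mul_mem (M.mul_mem j.2 (hM.1.1 _ j.2)) (hM.1.1 _ j.2), (hfix _).2 ?_⟩
        calc t * (j.1 * p * p) * t⁻¹ = (t * j.1 * t⁻¹) * (t * p * t⁻¹) * (t * p * t⁻¹) := by group
          _ = j.1⁻¹ * (j.1 * p) * (j.1 * p) := by rw [hinvd j hj, htp, hqe, inv_inv]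
          _ = p * (j.1 * p) := by group
          _ = j.1 * p * p := by rw [← mul_assoc, ← h2.eq]
      rw [Nat.card_eq_fintype_card, ← Finset.card_univ]
      refine Finset.card_le_card_of_injOn
        (fun j => if hj : j ∈ J then (⟨_, hmemF j hj⟩ : F) else 1) (fun _ _ => Finset.mem_univ _) ?_
      intro j hj j' hj' e
      simp only [Finset.mem_coe] at hj hj'
      simp only [dif_pos hj, dif_pos hj'] at e
      have ef : j.1 * (x * j.1 * x⁻¹) * (x * j.1 * x⁻¹) = j'.1 * (x * j'.1 * x⁻¹) * (x * j'.1 * x⁻¹) :=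
        congrArg Subtype.val e
      have hcube : ∀ j : M, (j.1 * (x * j.1 * x⁻¹) * (x * j.1 * x⁻¹)) *
          (x * (j.1 * (x * j.1 * x⁻¹) * (x * j.1 * x⁻¹)) * x⁻¹) ^ 2 = (j.1 ^ 3)⁻¹ := by
        intro j
        obtain ⟨h1, h2⟩ := hid j
        set p := x * j.1 * x⁻¹ with hp
        set q := x * p * x⁻¹ with hq
        have hqe : q = (j.1 * p)⁻¹ := eq_inv_of_mul_eq_one_right h1
        have e1 : x * (j.1 * p * p) * x⁻¹ = p * q * q := by rw [hq, hp]; group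
        rw [e1, hqe]
        exact cube_identity h2
      have h3 : j.1 ^ 3 = j'.1 ^ 3 := by
        have := hcube j
        rw [ef, hcube j'] at this
        exact inv_injective this.symm
      have hco : (Nat.card M).Coprime 3 :=
        ((Nat.Prime.coprime_iff_not_dvd Nat.prime_three).2 hM.1.2).symm
      exact (powCoprime hco).injective (Subtype.ext (by simpa using h3))
    rw [Nat.card_eq_fintype_card]
    exact hfib.trans (Nat.mul_le_mul_left _ hJF)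
  rw [pow_two]
  omega

end Cfsg.Lib.Recog.SelfThree
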