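import Cfsg.Agent.Lib.Recog.SelfThree.Quot

/-!
# Maximal invariant subgroups of order prime to three
-/

set_option autoImplicit false
set_option linter.style.haveILetI false
set_option linter.unusedSectionVars false

namespace Cfsg.Lib.Recog.SelfThree

universe u

/-- The possible structures of a proper subgroup. -/
def Struct (H : Type u) [Group H] : Prop :=
  (∃ N : Subgroup H, N.Normal ∧ ¬ 3 ∣ Nat.card N ∧ (N.index = 3 ∨ N.index = 6)) ∨
  (∃ (E : Subgroup H) (_ : E.Normal), ¬ 3 ∣ Nat.card E ∧ (∀ s ∈ E, s ^ 2 = 1) ∧ Nonempty (H ⧸ E ≃* A5)) ∨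
  (IsSimpleGroup H ∧ Nat.card H = 168)

/-- The local setting: a simple group all of whose proper subgroups have known structure. -/
structure Ctx (G : Type u) [Group G] [Finite G] (x t : G) : Prop where
  sc : SC x
  inv : t * x * t⁻¹ = x⁻¹
  simple : IsSimpleGroup G
  sub : ∀ H : Subgroup G, H ≠ ⊤ → x ∈ H → Struct H

/-- Maximal invariant subgroups of order prime to three. -/
def IsMax {G : Type u} [Group G] (x : G) (M : Subgroup G) : Prop :=
  InvThree x M ∧ M ≠ ⊥ ∧ ∀ K : Subgroup G, InvThree x K → M ≤ K → K = M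

variable {G : Type u} [Group G] [Finite G] {x t : G}

theorem InvThree.subgroupOf {H K : Subgroup G} (hK : InvThree x K) (hx : x ∈ H) (hKH : K ≤ H) :
    InvThree (⟨x, hx⟩ : H) (K.subgroupOf H) :=
  ⟨fun k hk => hK.1 k.1 hk,
    fun h3 => hK.2 (h3.trans (Nat.card_congr (Subgroup.subgroupOfEquivOfLe hKH).toEquiv).dvd)⟩

theorem exists_max {K : Subgroup G} (hK : InvThree x K) (hne : K ≠ ⊥) : ∃ M, IsMax x M ∧ K ≤ M := by
  obtain ⟨M, ⟨hM, hKM⟩, hmax⟩ := Set.exists_max_image {L : Subgroup G | InvThree x L ∧ K ≤ L}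
    (fun L => Nat.card L) (Set.toFinite _) ⟨K, hK, le_rfl⟩
  refine ⟨M, ⟨hM, fun e => hne (le_bot_iff.1 (e ▸ hKM)), fun L hL hle => ?_⟩, hKM⟩
  exact (Subgroup.eq_of_le_of_card_ge hle (hmax L ⟨hL, hKM.trans hle⟩)).symm

theorem Ctx.x_not_mem (_C : Ctx G x t) {K : Subgroup G} (hK : ¬ 3 ∣ Nat.card K) : x ∉ K := fun hx =>
  hK (_C.sc.1 ▸ Subgroup.orderOf_dvd_natCard K hx)

theorem Ctx.normalizer_ne_top (C : Ctx G x t) {M : Subgroup G} (hne : M ≠ ⊥) (h3 : ¬ 3 ∣ Nat.card M) :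
    Subgroup.normalizer (M : Set G) ≠ ⊤ := fun e => by
  haveI := C.simple
  rcases (Subgroup.normalizer_eq_top_iff.1 e).eq_bot_or_eq_top with h | h
  · exact hne h
  · exact C.x_not_mem h3 (h ▸ Subgroup.mem_top x)

theorem Ctx.simple_absurd (C : Ctx G x t) {H M : Subgroup G} (hx : x ∈ H) (hs : IsSimpleGroup H) (hne : M ≠ ⊥)
    (h3 : ¬ 3 ∣ Nat.card M) (hMH : M ≤ H) (hn : H ≤ Subgroup.normalizer (M : Set G)) : False := by
  haveI := hs
  haveI hnn : (M.subgroupOf H).Normal := (Subgroup.normal_subgroupOf_iff_le_normalizer hMH).2 hn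
  rcases hnn.eq_bot_or_eq_top with h | h
  · exact hne (Subgroup.subgroupOf_eq_bot.1 h |>.eq_bot_of_le hMH)
  · exact C.x_not_mem h3 (h.symm.le (Subgroup.mem_top (⟨x, hx⟩ : H)))

/-- Data of the case with quotient `A₅`. -/
theorem Ctx.a5_data (C : Ctx G x t) {H : Subgroup G} (hx : x ∈ H) {E : Subgroup H} [E.Normal]
    (hE3 : ¬ 3 ∣ Nat.card E) (hE2 : ∀ s ∈ E, s ^ 2 = 1) (e : H ⧸ E ≃* A5) :
    ∃ π : H →* A5, Function.Surjective π ∧ π ⟨x, hx⟩ = a0 ∧ ¬ 3 ∣ Nat.card π.ker ∧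
      (∀ s ∈ π.ker, s ^ 2 = 1) ∧ (∀ K : Subgroup G, InvThree x K → ∀ k, ∀ hk : k ∈ H, k ∈ K → K ≤ H → Wp (π ⟨k, hk⟩)) ∧
      (∀ K : Subgroup G, InvThree x K → K ≤ H → H ≤ Subgroup.normalizer (K : Set G) →
        ∀ k, ∀ hk : k ∈ H, k ∈ K → π ⟨k, hk⟩ = 1) := by
  obtain ⟨π, hπ, hker, hy⟩ := exists_normalised (C.sc.subtype hx) (e.toMonoidHom.comp (QuotientGroup.mk' E))
    (e.surjective.comp (QuotientGroup.mk'_surjective E)) (by
      rw [show (e.toMonoidHom.comp (QuotientGroup.mk' E)).ker = E by ext g; simp]; exact hE3)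
  have hker' : π.ker = E := hker.trans (by ext g; simp)
  have hwp : ∀ K : Subgroup G, InvThree x K → ∀ k, ∀ hk : k ∈ H, k ∈ K → K ≤ H → Wp (π ⟨k, hk⟩) :=
    fun K hK k hk hkK hKH => wp_of_inv (C.sc.subtype hx) hy (hK.subgroupOf hx hKH) hkK
  refine ⟨π, hπ, hy, by rw [hker']; exact hE3, by rw [hker']; exact hE2, hwp, ?_⟩
  intro K hK hKH hn k hk hkK
  haveI hnn : (K.subgroupOf H).Normal := (Subgroup.normal_subgroupOf_iff_le_normalizer hKH).2 hn
  haveI : IsSimpleGroup A5 := alternatingGroup.isSimpleGroup_five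
  rcases (hnn.map π hπ).eq_bot_or_eq_top with h | h
  · exact Subgroup.mem_bot.1 (h ▸ ⟨⟨k, hk⟩, hkK, rfl⟩)
  · exfalso
    obtain ⟨v, hv, hva⟩ := h.symm.le (Subgroup.mem_top a0)
    have hwa : Wp a0 := hva ▸ hwp K hK v.1 v.2 hv hKH
    have h3 : a0 ^ 3 = 1 := by
      rw [← hy, ← map_pow, ← map_one π]
      exact congrArg π (Subtype.ext C.sc.pow_three)
    have h1 : a0 = 1 := hwa.1 h3
    rw [← hy, ← MonoidHom.mem_ker, hker'] at h1
    exact hE3 ((C.sc.subtype hx).1 ▸ Subgroup.orderOf_dvd_natCard E h1)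

theorem Ctx.normalizer_max (C : Ctx G x t) {M : Subgroup G} (hM : IsMax x M) :
    M.relIndex (Subgroup.normalizer (M : Set G)) = 3 ∨ M.relIndex (Subgroup.normalizer (M : Set G)) = 6 := by
  set H := Subgroup.normalizer (M : Set G) with hH
  have hx : x ∈ H := hM.1.mem_normalizer
  have hMH : M ≤ H := Subgroup.le_normalizer
  rcases C.sub H (C.normalizer_ne_top hM.2.1 hM.1.2) hx with ⟨N, hN, hN3, hidx⟩ | ⟨E, hE, hE3, hE2, ⟨e⟩⟩ | ⟨hs, -⟩
  · haveI := hN
    have hsc := C.sc.subtype hx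
    have hidx' : N.relIndex ⊤ = 3 ∨ N.relIndex ⊤ = 6 := by rwa [Subgroup.relIndex_top_right]
    have hle : M.subgroupOf H ≤ N := hsc.small_quot (H := ⊤) (Subgroup.mem_top _) le_top
      (by rw [Subgroup.normalizer_eq_top]) hidx' hN3 (hM.1.subgroupOf hx hMH) le_top
    have hNinv : InvThree x (N.map H.subtype) := by
      refine ⟨?_, by rwa [Subgroup.card_map_of_injective (f := H.subtype) H.subtype_injective]⟩
      rintro _ ⟨v, hv, rfl⟩
      exact ⟨⟨x, hx⟩ * v * ⟨x, hx⟩⁻¹, hN.conj_mem v hv _, rfl⟩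
    have heq : N.map H.subtype = M := hM.2.2 _ hNinv fun m hm => ⟨⟨m, hMH hm⟩, hle hm, rfl⟩
    have : N = M.subgroupOf H := by
      rw [← heq, Subgroup.subgroupOf, Subgroup.comap_map_eq_self_of_injective H.subtype_injective]
    rw [Subgroup.relIndex, ← this]; exact hidx
  · exfalso
    haveI := hE
    obtain ⟨π, hπ, hy, hk3, -, -, hnorm⟩ := C.a5_data hx hE3 hE2 e
    have hMk : M.subgroupOf H ≤ π.ker := fun k hk => hnorm M hM.1 hMH le_rfl k.1 k.2 hk
    obtain ⟨w, hw, hw1⟩ := fact_exists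
    obtain ⟨P, hP, hkP, hmem⟩ := exists_preimage (C.sc.subtype hx) hy hπ hk3 hw
    have hPinv : InvThree x (P.map H.subtype) := by
      refine ⟨?_, by rw [Subgroup.card_map_of_injective (f := H.subtype) H.subtype_injective]; exact hP.2⟩
      rintro _ ⟨v, hv, rfl⟩
      exact ⟨_, hP.1 v hv, rfl⟩
    have heq := hM.2.2 _ hPinv fun m hm => ⟨⟨m, hMH hm⟩, hkP (hMk hm), rfl⟩
    obtain ⟨u, hu⟩ := hπ w
    have huM : u.1 ∈ M := heq.le ⟨u, (hmem u).1 (by rw [hu]; simp [four]), rfl⟩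
    exact hw1 (hu ▸ hMk (show u ∈ M.subgroupOf H from huM))
  · exact (C.simple_absurd hx hs hM.2.1 hM.1.2 hMH le_rfl).elim

theorem Ctx.le_max (C : Ctx G x t) {M K : Subgroup G} (hM : IsMax x M) (hK : InvThree x K)
    (hKH : K ≤ Subgroup.normalizer (M : Set G)) : K ≤ M :=
  C.sc.small_quot hM.1.mem_normalizer Subgroup.le_normalizer le_rfl (C.normalizer_max hM) hM.1.2 hK hKH

theorem Ctx.t_not_mem (C : Ctx G x t) {M : Subgroup G} (hM : IsMax x M) : t ∉ M := by
  intro htM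
  have hxn := hM.1.1 t⁻¹ (M.inv_mem htM)
  have h1 : t * (x * t⁻¹ * x⁻¹) = x := by
    calc t * (x * t⁻¹ * x⁻¹) = (t * x * t⁻¹) * x⁻¹ := by group
      _ = x⁻¹ * x⁻¹ * (x ^ 3) := by rw [C.inv, C.sc.pow_three, mul_one]
      _ = x := by group
  exact C.x_not_mem hM.1.2 (h1 ▸ M.mul_mem htM hxn)

theorem Ctx.relIndex_cases (C : Ctx G x t) {M : Subgroup G} (hM : IsMax x M) :
    (t ∈ Subgroup.normalizer (M : Set G) → M.relIndex (Subgroup.normalizer (M : Set G)) = 6) ∧
    (t ∉ Subgroup.normalizer (M : Set G) → M.relIndex (Subgroup.normalizer (M : Set G)) = 3) := by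
  set H := Subgroup.normalizer (M : Set G) with hH
  have hx : x ∈ H := hM.1.mem_normalizer
  haveI : (M.subgroupOf H).Normal := (Subgroup.normal_subgroupOf_iff_le_normalizer Subgroup.le_normalizer).2 le_rfl
  set π := QuotientGroup.mk' (M.subgroupOf H) with hπdef
  obtain ⟨ht2, ht1⟩ := C.sc.inverter C.inv
  constructor
  · intro htH
    refine (C.normalizer_max hM).resolve_left fun h3 => ?_
    have hne : π ⟨t, htH⟩ ≠ 1 := fun e => C.t_not_mem hM ((QuotientGroup.eq_one_iff (N := M.subgroupOf H) _).1 e)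
    have hord : orderOf (π ⟨t, htH⟩) = 2 := orderOf_eq_prime (by
      rw [← map_pow, ← map_one π]; exact congrArg π (Subtype.ext ht2)) hne
    have := orderOf_dvd_natCard (π ⟨t, htH⟩)
    rw [hord, ← Subgroup.index, ← Subgroup.relIndex, h3] at this
    norm_num at this
  · intro htH
    refine (C.normalizer_max hM).resolve_right fun h6 => htH ?_
    haveI := Fact.mk Nat.prime_two
    have hcard : Nat.card (H ⧸ M.subgroupOf H) = 6 := by rw [← Subgroup.index, ← Subgroup.relIndex, h6]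
    set xb := π ⟨x, hx⟩ with hxb
    have hxb1 : xb ≠ 1 := fun e => C.x_not_mem hM.1.2 ((QuotientGroup.eq_one_iff (N := M.subgroupOf H) _).1 e)
    have hxb3 : orderOf xb = 3 := by
      haveI := Fact.mk Nat.prime_three
      refine orderOf_eq_prime ?_ hxb1
      rw [hxb, ← map_pow, ← map_one π]; exact congrArg π (Subtype.ext C.sc.pow_three)
    have hidx : (Subgroup.zpowers xb).index = 2 := by
      have := Subgroup.card_mul_index (Subgroup.zpowers xb)
      rw [Nat.card_zpowers, hxb3, hcard] at this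
      omega
    haveI := Subgroup.normal_of_index_eq_two hidx
    obtain ⟨gb, hgb⟩ := exists_prime_orderOf_dvd_card' (G := H ⧸ M.subgroupOf H) 2 (by rw [hcard]; norm_num)
    obtain ⟨g, rfl⟩ := QuotientGroup.mk'_surjective (M.subgroupOf H) gb
    have hgnot : π g ∉ Subgroup.zpowers xb := fun hmem => by
      have := Subgroup.orderOf_dvd_natCard _ hmem
      rw [hgb, Nat.card_zpowers, hxb3] at this
      norm_num at this
    have hconj := Subgroup.Normal.conj_mem inferInstance xb (Subgroup.mem_zpowers xb) (π g)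
    have hgx : ∃ y, (y = x ∨ y = x⁻¹) ∧ ∃ m ∈ M, g.1 * x * g.1⁻¹ = m * y := by
      obtain ⟨i, hi⟩ := hconj
      have hxpow : x ^ i ∈ Subgroup.zpowers x := Subgroup.zpow_mem _ (Subgroup.mem_zpowers x) i
      have hmem : g.1 * x * g.1⁻¹ * (x ^ i)⁻¹ ∈ M := by
        have e : π (g * ⟨x, hx⟩ * g⁻¹ * ((⟨x, hx⟩ : H) ^ i)⁻¹) = 1 := by
          simp only [map_mul, map_inv, map_zpow]
          rw [← hxb, show xb ^ i = π g * xb * (π g)⁻¹ from hi, mul_inv_cancel]
        simpa [Subgroup.mem_subgroupOf] using (QuotientGroup.eq_one_iff (N := M.subgroupOf H) _).1 e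
      rcases C.sc.mem_cases hxpow with e | e | e
      · exfalso
        rw [e, inv_one, mul_one] at hmem
        exact C.x_not_mem hM.1.2 (by
          have := (Subgroup.mem_normalizer_iff.1 g.2 x).2
          exact this hmem)
      · exact ⟨x, Or.inl rfl, _, hmem, by rw [e]; group⟩
      · exact ⟨x⁻¹, Or.inr rfl, _, hmem, by rw [e]; group⟩
    obtain ⟨y, hy, m, hm, e⟩ := hgx
    have hyinv : InvThree y M := by rcases hy with rfl | rfl; exacts [hM.1, hM.1.inv]
    have hysc : SC y := by rcases hy with rfl | rfl; exacts [C.sc, C.sc.inv]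
    obtain ⟨n, hn, e'⟩ := hysc.conj_surj hyinv hm
    have hgn : (n⁻¹ * g.1) * x * (n⁻¹ * g.1)⁻¹ = y := by
      calc (n⁻¹ * g.1) * x * (n⁻¹ * g.1)⁻¹ = n⁻¹ * (g.1 * x * g.1⁻¹) * n := by group
        _ = y := by rw [e, ← e']; group
    have hnH : n⁻¹ * g.1 ∈ H := H.mul_mem (H.inv_mem (Subgroup.le_normalizer hn)) g.2
    rcases hy with rfl | rfl
    · exfalso
      obtain ⟨i, hi⟩ := C.sc.2 _ (mul_inv_eq_iff_eq_mul.1 hgn)
      refine hgnot ⟨i, ?_⟩
      have hg' : g = (⟨n, Subgroup.le_normalizer hn⟩ : H) * (⟨y, hx⟩ : H) ^ i := by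
        apply Subtype.ext
        simp [show y ^ i = n⁻¹ * g.1 from hi]
      show xb ^ i = π g
      rw [hg', map_mul, map_zpow, ← hxb, show π ⟨n, Subgroup.le_normalizer hn⟩ = 1 from
        (QuotientGroup.eq_one_iff (N := M.subgroupOf H) _).2 hn, one_mul]
    · rcases C.sc.inverter_cases C.inv hgn with e1 | e1 | e1
      · exact e1 ▸ hnH
      · have h2 := H.mul_mem hnH (H.inv_mem hx)
        rwa [e1, mul_inv_cancel_right] at h2
      · have h2 := H.mul_mem hnH hx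
        rwa [e1, inv_mul_cancel_right] at h2

/-- The Sylow parts of a maximal invariant subgroup have the same normaliser. -/
theorem Ctx.normalizer_sylow (C : Ctx G x t) {M : Subgroup G} (hM : IsMax x M) {q : ℕ} [Fact q.Prime]
    (hq : q ∣ Nat.card M) (S : Sylow q M) :
    Subgroup.normalizer (((S : Subgroup M).map M.subtype : Subgroup G) : Set G) =
      Subgroup.normalizer (M : Set G) := by
  haveI : Group.IsNilpotent M := C.sc.nilpotent hM.1
  haveI hSn : (S : Subgroup M).Normal := inferInstance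
  haveI := Sylow.characteristic_of_normal S hSn
  set Q := (S : Subgroup M).map M.subtype with hQ
  set H := Subgroup.normalizer (M : Set G)
  have hQM : Q ≤ M := Subgroup.map_subtype_le _
  have hHQ : H ≤ Subgroup.normalizer (Q : Set G) := by
    haveI : (M.subgroupOf H).Normal :=
      (Subgroup.normal_subgroupOf_iff_le_normalizer Subgroup.le_normalizer).2 le_rfl
    intro g hg
    have hkey : ∀ g ∈ H, ∀ v ∈ Q, g * v * g⁻¹ ∈ Q := by
      rintro g hg _ ⟨v, hv, rfl⟩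
      let φ : M ≃* M :=
        { toFun := fun a => ⟨g * a * g⁻¹, (Subgroup.mem_normalizer_iff.1 hg a).1 a.2⟩
          invFun := fun a => ⟨g⁻¹ * a * g, by
            simpa using (Subgroup.mem_normalizer_iff.1 (H.inv_mem hg) a).1 a.2⟩
          left_inv := fun a => Subtype.ext (by group)
          right_inv := fun a => Subtype.ext (by group)
          map_mul' := fun a b => Subtype.ext (by simp [mul_assoc]) }
      have hc := Subgroup.characteristic_iff_map_eq.1 (inferInstance : (S : Subgroup M).Characteristic) φ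
      exact ⟨φ v, hc.le ⟨v, hv, rfl⟩, rfl⟩
    exact Subgroup.mem_normalizer_iff.2 fun v => ⟨hkey g hg v, fun hv => by
      have := hkey g⁻¹ (H.inv_mem hg) _ hv
      rwa [show g⁻¹ * (g * v * g⁻¹) * g⁻¹⁻¹ = v by group] at this⟩
  have hQcard : Nat.card Q = Nat.card S := Subgroup.card_map_of_injective (f := M.subtype) M.subtype_injective
  have hQne : Q ≠ ⊥ := fun e => by
    have h1 := S.dvd_card_of_dvd_card hq
    rw [← hQcard, e, Subgroup.card_bot] at h1
    exact (Fact.out : q.Prime).one_lt.ne' (Nat.dvd_one.1 h1)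
  have hQ3 : ¬ 3 ∣ Nat.card Q := fun h => hM.1.2 (h.trans (Subgroup.card_dvd_of_le hQM))
  set H' := Subgroup.normalizer (Q : Set G) with hH'
  have hx : x ∈ H' := hHQ hM.1.mem_normalizer
  have hMH' : M ≤ H' := Subgroup.le_normalizer.trans hHQ
  refine le_antisymm ?_ hHQ
  rcases C.sub H' (C.normalizer_ne_top hQne hQ3) hx with ⟨N, hN, hN3, hidx⟩ | ⟨E, hE, hE3, hE2, ⟨e⟩⟩ | ⟨hs, -⟩
  · haveI := hN
    have hsc := C.sc.subtype hx
    have hidx' : N.relIndex ⊤ = 3 ∨ N.relIndex ⊤ = 6 := by rwa [Subgroup.relIndex_top_right]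
    have hle : M.subgroupOf H' ≤ N := hsc.small_quot (H := ⊤) (Subgroup.mem_top _) le_top
      (by rw [Subgroup.normalizer_eq_top]) hidx' hN3 (hM.1.subgroupOf hx hMH') le_top
    have hNinv : InvThree x (N.map H'.subtype) := by
      refine ⟨?_, by rwa [Subgroup.card_map_of_injective (f := H'.subtype) H'.subtype_injective]⟩
      rintro _ ⟨v, hv, rfl⟩
      exact ⟨⟨x, hx⟩ * v * ⟨x, hx⟩⁻¹, hN.conj_mem v hv _, rfl⟩
    have heq : N.map H'.subtype = M := hM.2.2 _ hNinv fun m hm => ⟨⟨m, hMH' hm⟩, hle hm, rfl⟩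
    intro g hg
    refine Subgroup.mem_normalizer_iff.2 fun v => ⟨fun hv => ?_, fun hv => ?_⟩
    · obtain ⟨w, hw, rfl⟩ := heq.symm.le hv
      exact heq.le ⟨⟨g, hg⟩ * w * ⟨g, hg⟩⁻¹, hN.conj_mem w hw _, rfl⟩
    · obtain ⟨w, hw, hwv⟩ := heq.symm.le hv
      refine heq.le ⟨(⟨g, hg⟩ : H')⁻¹ * w * ((⟨g, hg⟩ : H')⁻¹)⁻¹, hN.conj_mem w hw _, ?_⟩
      show g⁻¹ * H'.subtype w * g⁻¹⁻¹ = v
      rw [hwv]; group
  · exfalso
    haveI := hE
    obtain ⟨π, hπ, hy, hk3, hk2, hwp, hnorm⟩ := C.a5_data hx hE3 hE2 e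
    have hQinv : InvThree x Q := ⟨fun v hv => (Subgroup.mem_normalizer_iff.1 hx v).1 hv, hQ3⟩
    have hQsq : ∀ v ∈ Q, v ^ 2 = 1 := fun v hv => by
      have := hk2 ⟨v, hMH' (hQM hv)⟩ (hnorm Q hQinv (hQM.trans hMH') le_rfl v (hMH' (hQM hv)) hv)
      exact congrArg Subtype.val this
    have hq2 : q = 2 := by
      obtain ⟨v, hv, hv1⟩ := (Subgroup.bot_or_exists_ne_one Q).resolve_left hQne
      have h1 : orderOf v = 2 := orderOf_eq_prime (hQsq v hv) hv1
      obtain ⟨k, hk⟩ := IsPGroup.iff_card.1 S.2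
      have h2 : 2 ∣ q ^ k := by rw [← hk, ← hQcard, ← h1]; exact Subgroup.orderOf_dvd_natCard Q hv
      exact ((Nat.prime_dvd_prime_iff_eq Nat.prime_two Fact.out).1 (Nat.prime_two.dvd_of_dvd_pow h2)).symm
    subst hq2
    have hM2 : ∀ m ∈ M, ∃ j, orderOf m ∣ 2 ^ j := fun m hm => by
      refine ⟨2, orderOf_dvd_of_pow_eq_one ?_⟩
      have h1 : π (⟨m, hMH' hm⟩ ^ 2) = 1 := by
        rw [map_pow, pow_two]; exact fact_sq _ (hwp M hM.1 m _ hm hMH')
      have h2 := hk2 _ h1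
      have := congrArg Subtype.val h2
      simpa [← pow_mul] using this
    have hMp : IsPGroup 2 M := IsPGroup.iff_orderOf.2 fun m => by
      obtain ⟨j, hj⟩ := hM2 m.1 m.2
      rw [Subgroup.orderOf_coe] at hj
      obtain ⟨i, -, hi⟩ := (Nat.dvd_prime_pow Nat.prime_two).1 hj
      exact ⟨i, hi⟩
    have hStop : (S : Subgroup M) = ⊤ :=
      (S.3 (hMp.to_subgroup ⊤) le_top).symm
    have hQeq : Q = M := by rw [hQ, hStop, ← MonoidHom.range_eq_map, Subgroup.range_subtype]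
    have h6 := C.normalizer_max hM
    have hH'H : H' = H := by rw [hH', hQeq]
    rw [← show H' = Subgroup.normalizer (M : Set G) from hH'H] at h6
    have hker : M.subgroupOf H' ≤ π.ker := fun k hk => hnorm Q hQinv (hQM.trans hMH') le_rfl k.1 k.2 (hQeq.symm ▸ hk)
    have h60 : 60 ∣ M.relIndex H' := by
      have h1 := Subgroup.relIndex_dvd_of_le_left ⊤ hker
      rw [Subgroup.relIndex_top_right, Subgroup.relIndex_top_right] at h1
      have h2 : π.ker.index = 60 := by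
        rw [Subgroup.index_ker, MonoidHom.range_eq_top.2 hπ, Subgroup.card_top, nat_card_alternatingGroup,
          Nat.card_fin]
        rfl
      rw [h2] at h1
      exact h1
    rcases h6 with e6 | e6 <;> rw [e6] at h60 <;> norm_num at h60
  · exact (C.simple_absurd hx hs hQne hQ3 (hQM.trans hMH') le_rfl).elim

/-- A pool member: every prime divisor gives a Sylow subgroup of the whole group. -/
def IsPool (t : G) (M : Subgroup G) : Prop := t ∉ Subgroup.normalizer (M : Set G) ∨ Odd (Nat.card M)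

theorem Ctx.sylow_full (C : Ctx G x t) {M : Subgroup G} (hM : IsMax x M) (hP : IsPool t M) {q : ℕ}
    [Fact q.Prime] (hq : q ∣ Nat.card M) (S : Sylow q M) :
    ∃ T : Sylow q G, (T : Subgroup G) = (S : Subgroup M).map M.subtype := by
  set Q := (S : Subgroup M).map M.subtype with hQ
  set H := Subgroup.normalizer (M : Set G) with hH
  have hQp : IsPGroup q Q := S.2.map _
  obtain ⟨T, hT⟩ := hQp.exists_le_sylow
  refine ⟨T, ?_⟩
  by_contra hne
  have hlt : Q < (T : Subgroup G) := lt_of_le_of_ne hT (Ne.symm hne)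
  haveI : Group.IsNilpotent (T : Subgroup G) := T.2.isNilpotent
  have hlt' : (Q.subgroupOf (T : Subgroup G)) < ⊤ := lt_top_iff_ne_top.2 fun e => hne
    (le_antisymm (fun g hg => (e.symm.le (Subgroup.mem_top (⟨g, hg⟩ : (T : Subgroup G))) : (_ : G) ∈ Q)) hT)
  obtain ⟨v, hv, hvQ⟩ := SetLike.exists_of_lt (Group.normalizerCondition_of_isNilpotent _ hlt')
  have hvn : v.1 ∈ Subgroup.normalizer (Q : Set G) := by
    refine Subgroup.mem_normalizer_iff.2 fun w => ⟨fun hw => ?_, fun hw => ?_⟩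
    · exact (Subgroup.mem_normalizer_iff.1 hv ⟨w, hT hw⟩).1 hw
    · have hwT : w ∈ (T : Subgroup G) := by
        have := (T : Subgroup G).mul_mem ((T : Subgroup G).mul_mem ((T : Subgroup G).inv_mem v.2) (hT hw)) v.2
        rwa [show v.1⁻¹ * (v.1 * w * v.1⁻¹) * v.1 = w by group] at this
      exact (Subgroup.mem_normalizer_iff.1 hv ⟨w, hwT⟩).2 hw
  rw [hQ, C.normalizer_sylow hM hq S, ← hH] at hvn
  -- the element lies in `M`
  have hvM : v.1 ∈ M := by
    haveI : (M.subgroupOf H).Normal :=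
      (Subgroup.normal_subgroupOf_iff_le_normalizer Subgroup.le_normalizer).2 le_rfl
    set y := QuotientGroup.mk' (M.subgroupOf H) ⟨v.1, hvn⟩
    have h1 : orderOf y ∣ M.relIndex H := by rw [Subgroup.relIndex, Subgroup.index]; exact orderOf_dvd_natCard y
    obtain ⟨j, hj⟩ := IsPGroup.iff_orderOf.1 T.2 v
    have h2 : orderOf y ∣ q ^ j := by
      refine (orderOf_map_dvd _ _).trans ?_
      rw [Subgroup.orderOf_mk, Subgroup.orderOf_coe, hj]
    have hq3 : q ≠ 3 := fun e => hM.1.2 (e ▸ hq)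
    have hco : Nat.Coprime (M.relIndex H) (q ^ j) := by
      refine Nat.Coprime.pow_right _ ?_
      rcases hP with htn | hodd
      · rw [(C.relIndex_cases hM).2 htn]
        exact (Nat.coprime_primes Nat.prime_three Fact.out).2 (Ne.symm hq3)
      · have hq2 : q ≠ 2 := fun e => by
          subst e; obtain ⟨r, hr⟩ := hodd; omega
        rcases C.normalizer_max hM with e6 | e6 <;> rw [e6]
        · exact (Nat.coprime_primes Nat.prime_three Fact.out).2 (Ne.symm hq3)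
        · rw [show (6 : ℕ) = 2 * 3 from rfl]
          exact Nat.Coprime.mul_left
            ((Nat.coprime_primes Nat.prime_two Fact.out).2 (Ne.symm hq2))
            ((Nat.coprime_primes Nat.prime_three Fact.out).2 (Ne.symm hq3))
    have hy1 : y = 1 := orderOf_eq_one_iff.1 (Nat.dvd_one.1 (hco ▸ Nat.dvd_gcd h1 h2))
    exact (QuotientGroup.eq_one_iff (N := M.subgroupOf H) _).1 hy1
  refine hvQ ?_
  show v.1 ∈ Q
  have hz : IsPGroup q (Subgroup.zpowers (⟨v.1, hvM⟩ : M)) := by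
    obtain ⟨j, hj⟩ := IsPGroup.iff_orderOf.1 T.2 v
    exact IsPGroup.of_card (n := j) (by rw [Nat.card_zpowers, Subgroup.orderOf_mk, Subgroup.orderOf_coe, hj])
  obtain ⟨S', hS'⟩ := hz.exists_le_sylow
  haveI : Group.IsNilpotent M := C.sc.nilpotent hM.1
  haveI := Sylow.unique_of_normal S inferInstance
  exact ⟨⟨v.1, hvM⟩, Subsingleton.elim S' S ▸ hS' (Subgroup.mem_zpowers _), rfl⟩

/-- Two pool members with a common prime divisor are conjugate under `t` or equal. -/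
theorem Ctx.eq_or_conj (C : Ctx G x t) {M M' : Subgroup G} (hM : IsMax x M) (hM' : IsMax x M')
    (hP : IsPool t M) (hP' : IsPool t M') {q : ℕ} [Fact q.Prime] (hq : q ∣ Nat.card M) (hq' : q ∣ Nat.card M') :
    M' = M ∨ M' = M.map (MulAut.conj t).toMonoidHom := by
  obtain ⟨S⟩ : Nonempty (Sylow q M) := inferInstance
  obtain ⟨S'⟩ : Nonempty (Sylow q M') := inferInstance
  obtain ⟨T, hT⟩ := C.sylow_full hM hP hq S
  obtain ⟨T', hT'⟩ := C.sylow_full hM' hP' hq' S'
  obtain ⟨g, hg⟩ := MulAction.exists_smul_eq G T T'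
  have hN : ∀ v, v ∈ Subgroup.normalizer (M' : Set G) ↔ g⁻¹ * v * g ∈ Subgroup.normalizer (M : Set G) := by
    intro v
    rw [← C.normalizer_sylow hM hq S, ← C.normalizer_sylow hM' hq' S', ← hT, ← hT']
    have e1 : ∀ (U : Sylow q G) (w : G), w ∈ Subgroup.normalizer ((U : Subgroup G) : Set G) ↔ w • U = U :=
      fun U w => Sylow.smul_eq_iff_mem_normalizer.symm
    rw [e1, e1, ← hg, ← mul_smul, mul_smul (g⁻¹ * v) g, mul_smul g⁻¹ v, inv_smul_eq_iff, mul_smul]
  set Mg := M.map (MulAut.conj g).toMonoidHom with hMg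
  have hMgcard : Nat.card Mg = Nat.card M := Subgroup.card_map_of_injective (MulAut.conj g).injective
  have hxg : g⁻¹ * x * g ∈ Subgroup.normalizer (M : Set G) := (hN x).1 hM'.1.mem_normalizer
  have hMginv : InvThree x Mg := by
    refine ⟨?_, by rw [hMgcard]; exact hM.1.2⟩
    rintro _ ⟨v, hv, rfl⟩
    refine ⟨g⁻¹ * x * g * v * (g⁻¹ * x * g)⁻¹, (Subgroup.mem_normalizer_iff.1 hxg v).1 hv, ?_⟩
    show g * (g⁻¹ * x * g * v * (g⁻¹ * x * g)⁻¹) * g⁻¹ = x * (g * v * g⁻¹) * x⁻¹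
    group
  have hMgle : Mg ≤ M' := by
    refine C.le_max hM' hMginv ?_
    rintro _ ⟨v, hv, rfl⟩
    refine (hN _).2 ?_
    show g⁻¹ * (g * v * g⁻¹) * g ∈ _
    rw [show g⁻¹ * (g * v * g⁻¹) * g = v by group]
    exact Subgroup.le_normalizer hv
  have hM'eq : M' = Mg := by
    refine (Subgroup.eq_of_le_of_card_ge hMgle ?_).symm
    rw [hMgcard]
    have hK : M'.map (MulAut.conj g⁻¹).toMonoidHom ≤ M := by
      have hxg' : g * x * g⁻¹ ∈ Subgroup.normalizer (M' : Set G) :=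
        (hN _).2 (by rw [show g⁻¹ * (g * x * g⁻¹) * g = x by group]; exact hM.1.mem_normalizer)
      refine C.le_max hM ⟨?_, ?_⟩ ?_
      · rintro _ ⟨v, hv, rfl⟩
        refine ⟨g * x * g⁻¹ * v * (g * x * g⁻¹)⁻¹, (Subgroup.mem_normalizer_iff.1 hxg' v).1 hv, ?_⟩
        show g⁻¹ * (g * x * g⁻¹ * v * (g * x * g⁻¹)⁻¹) * g⁻¹⁻¹ = x * (g⁻¹ * v * g⁻¹⁻¹) * x⁻¹
        group
      · rw [Subgroup.card_map_of_injective (MulAut.conj g⁻¹).injective]; exact hM'.1.2
      · rintro _ ⟨v, hv, rfl⟩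
        have := (hN v).1 (Subgroup.le_normalizer hv)
        show g⁻¹ * v * g⁻¹⁻¹ ∈ _
        rwa [inv_inv]
    rw [← Subgroup.card_map_of_injective (f := (MulAut.conj g⁻¹).toMonoidHom) (MulAut.conj g⁻¹).injective]
    exact Subgroup.card_le_of_le hK
  -- move the conjugating element into the normaliser of `x`
  have hxg' : g * x * g⁻¹ ∈ Subgroup.normalizer (M' : Set G) :=
    (hN _).2 (by rw [show g⁻¹ * (g * x * g⁻¹) * g = x by group]; exact hM.1.mem_normalizer)
  have hord : orderOf (⟨g * x * g⁻¹, hxg'⟩ : Subgroup.normalizer (M' : Set G)) = 3 := by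
    rw [Subgroup.orderOf_mk, ← C.sc.1]
    exact MulEquiv.orderOf_eq (MulAut.conj g) x
  obtain ⟨k, hk⟩ := (C.sc.subtype hM'.1.mem_normalizer).exists_conj hord
  have hn : (k.1⁻¹ * g) * x * (k.1⁻¹ * g)⁻¹ = x ∨ (k.1⁻¹ * g) * x * (k.1⁻¹ * g)⁻¹ = x⁻¹ := by
    rcases hk with e | e
    · left
      have e' : k.1 * x * k.1⁻¹ = g * x * g⁻¹ := congrArg Subtype.val e
      calc _ = k.1⁻¹ * (g * x * g⁻¹) * k.1 := by group
        _ = x := by rw [← e']; group
    · right
      have e' : k.1 * x⁻¹ * k.1⁻¹ = g * x * g⁻¹ := congrArg Subtype.val e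
      calc _ = k.1⁻¹ * (g * x * g⁻¹) * k.1 := by group
        _ = x⁻¹ := by rw [← e']; group
  have hconjmem : ∀ (w : G) (v : G), v ∈ M.map (MulAut.conj w).toMonoidHom ↔ w⁻¹ * v * w ∈ M := by
    intro w v
    constructor
    · rintro ⟨u, hu, rfl⟩
      show w⁻¹ * (w * u * w⁻¹) * w ∈ M
      rwa [show w⁻¹ * (w * u * w⁻¹) * w = u by group]
    · intro hv
      exact ⟨_, hv, by show w * (w⁻¹ * v * w) * w⁻¹ = v; group⟩
  have hMn : ∀ v, v ∈ M' ↔ v ∈ M.map (MulAut.conj (k.1⁻¹ * g)).toMonoidHom := by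
    intro v
    rw [hconjmem, Subgroup.mem_normalizer_iff.1 k.2 v, show (k.1⁻¹ * g)⁻¹ * v * (k.1⁻¹ * g) = g⁻¹ * (k.1 * v * k.1⁻¹) * g by group,
      ← hconjmem g, ← hMg, ← hM'eq]
  have hxfix : ∀ w ∈ Subgroup.zpowers x, ∀ v, w⁻¹ * v * w ∈ M ↔ v ∈ M := by
    intro w hw v
    have hwn : w⁻¹ ∈ Subgroup.normalizer (M : Set G) :=
      Subgroup.inv_mem _ ((Subgroup.zpowers_le.2 hM.1.mem_normalizer) hw)
    have := (Subgroup.mem_normalizer_iff.1 hwn v).symm
    rwa [inv_inv] at this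
  rcases hn with e | e
  · refine Or.inl (SetLike.ext fun v => ?_)
    rw [hMn, hconjmem]
    exact hxfix _ (C.sc.2 _ (mul_inv_eq_iff_eq_mul.1 e)) v
  · refine Or.inr (SetLike.ext fun v => ?_)
    rw [hMn, hconjmem, hconjmem]
    rcases C.sc.inverter_cases C.inv e with e1 | e1 | e1 <;> rw [e1]
    · rw [show (t * x)⁻¹ * v * (t * x) = x⁻¹ * (t⁻¹ * v * t) * x by group]
      exact hxfix x (Subgroup.mem_zpowers x) _
    · rw [show (t * x⁻¹)⁻¹ * v * (t * x⁻¹) = x⁻¹⁻¹ * (t⁻¹ * v * t) * x⁻¹ by group]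
      exact hxfix x⁻¹ (Subgroup.inv_mem _ (Subgroup.mem_zpowers x)) _

end Cfsg.Lib.Recog.SelfThree
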