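import Cfsg.Agent.Lib.Recog.SelfThree.Basic

/-!
# Quotients `A₅` and simple quotients of groups with a self-centralising element of order three
-/

set_option autoImplicit false
set_option linter.style.haveILetI false
set_option linter.unusedSectionVars false

namespace Cfsg.Lib.Recog.SelfThree

/-- The alternating group of degree five. -/
abbrev A5 : Type := ↥(alternatingGroup (Fin 5))

/-- A fixed three-cycle. -/
def a0 : A5 := ⟨Equiv.swap 0 1 * Equiv.swap 1 2, by rw [Equiv.Perm.mem_alternatingGroup]; decide⟩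

/-- The identities satisfied by invariant subgroups of order prime to three. -/
def Wp (w : A5) : Prop :=
  (w ^ 3 = 1 → w = 1) ∧ w * (a0 * w * a0⁻¹) = a0 * w * a0⁻¹ * w ∧ w * (a0 * w * a0⁻¹) * (a0 * (a0 * w * a0⁻¹) * a0⁻¹) = 1

instance wpDecidable (w : A5) : Decidable (Wp w) := by unfold Wp; infer_instance

set_option maxRecDepth 100000 in
theorem fact_conj : ∀ x : A5, x ^ 3 = 1 → x ≠ 1 → ∃ g : A5, g * x * g⁻¹ = a0 := by decide +kernel

set_option maxRecDepth 100000 in
theorem fact_sq : ∀ w : A5, Wp w → w * w = 1 := by decide +kernel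

set_option maxRecDepth 100000 in
theorem fact_exists : ∃ w : A5, Wp w ∧ w ≠ 1 := by decide +kernel

/-- The four group generated by a non-trivial element with the identities. -/
def four (w : A5) : List A5 := [1, w, a0 * w * a0⁻¹, a0 * (a0 * w * a0⁻¹) * a0⁻¹]

set_option maxRecDepth 100000 in
theorem fact_four : ∀ w : A5, Wp w →
    ∀ u ∈ four w, ∀ v ∈ four w, u * v ∈ four w ∧ u * u = 1 ∧ a0 * u * a0⁻¹ ∈ four w := by decide +kernel

set_option maxRecDepth 100000 in
theorem fact_pair : ∀ w : A5, Wp w → w ≠ 1 → ∀ v : A5, Wp v → Wp (w * v) → v ∈ four w := by decide +kernel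

set_option maxRecDepth 100000 in
theorem fact_tau : ∀ τ : A5, τ * a0 * τ⁻¹ = a0⁻¹ → ∀ w : A5, Wp w → w ≠ 1 →
    ¬ Wp (w * (τ * w * τ⁻¹)) := by decide +kernel

variable {G : Type*} [Group G] [Finite G]

/-- Images in `A₅` of invariant subgroups. -/
theorem wp_of_inv {H : Type*} [Group H] [Finite H] {y : H} (h : SC y) {π : H →* A5} (hy : π y = a0)
    {K : Subgroup H} (hK : InvThree y K) {k : H} (hk : k ∈ K) : Wp (π k) := by
  obtain ⟨h1, h2⟩ := h.identities hK hk
  refine ⟨fun e => ?_, ?_, ?_⟩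
  · have h3 : orderOf (π k) ∣ Nat.card K := (orderOf_map_dvd π k).trans (Subgroup.orderOf_dvd_natCard K hk)
    rcases (Nat.dvd_prime Nat.prime_three).1 (orderOf_dvd_of_pow_eq_one e) with h4 | h4
    · exact orderOf_eq_one_iff.1 h4
    · exact absurd (h4 ▸ h3) hK.2
  · simpa [hy] using congrArg π h2.eq
  · simpa [hy] using congrArg π h1

theorem four_inv {w u : A5} (hw : Wp w) (hu : u ∈ four w) : u⁻¹ ∈ four w := by
  rwa [inv_eq_of_mul_eq_one_right (fact_four w hw u hu u hu).2.1]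

/-- The preimage of a four group is invariant of order prime to three. -/
theorem exists_preimage {H : Type*} [Group H] [Finite H] {y : H} (h : SC y) {π : H →* A5} (hy : π y = a0)
    (hπ : Function.Surjective π) (hker : ¬ 3 ∣ Nat.card π.ker) {w : A5} (hw : Wp w) :
    ∃ P : Subgroup H, InvThree y P ∧ π.ker ≤ P ∧ ∀ k : H, π k ∈ four w ↔ k ∈ P := by
  have hfac := fact_four w hw
  let V : Subgroup A5 :=
    { carrier := {u | u ∈ four w}
      one_mem' := by simp [four]
      mul_mem' := fun {u v} hu hv => (hfac u hu v hv).1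
      inv_mem' := fun {u} hu => four_inv hw hu }
  refine ⟨V.comap π, ⟨fun k hk => ?_, ?_⟩, fun k hk => ?_, fun k => Iff.rfl⟩
  · show π (y * k * y⁻¹) ∈ four w
    rw [map_mul, map_mul, map_inv, hy]
    exact (hfac _ hk _ hk).2.2
  · intro h3
    haveI := Fact.mk Nat.prime_three
    obtain ⟨⟨k, hk⟩, hko⟩ := exists_prime_orderOf_dvd_card' (G := V.comap π) 3 h3
    rw [Subgroup.orderOf_mk] at hko
    have h1 : orderOf (π k) ∣ 3 := hko ▸ orderOf_map_dvd π k
    have h2 : orderOf (π k) ∣ 2 := orderOf_dvd_of_pow_eq_one (by rw [pow_two]; exact (hfac _ hk _ hk).2.1)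
    have hk1 : π k = 1 := orderOf_eq_one_iff.1 (Nat.dvd_one.1 (Nat.dvd_gcd h2 h1))
    exact hker (hko ▸ Subgroup.orderOf_dvd_natCard _ (show k ∈ π.ker from hk1))
  · show π k ∈ four w
    rw [show π k = 1 from hk]; simp [four]

/-- A map onto `A₅` normalised at `x`. -/
theorem exists_normalised {H : Type*} [Group H] [Finite H] {y : H} (h : SC y) (π : H →* A5)
    (hπ : Function.Surjective π) (hker : ¬ 3 ∣ Nat.card π.ker) :
    ∃ π' : H →* A5, Function.Surjective π' ∧ π'.ker = π.ker ∧ π' y = a0 := by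
  have h3 : π y ^ 3 = 1 := by rw [← map_pow, h.pow_three, map_one]
  have hne : π y ≠ 1 := fun e => hker (h.1 ▸ Subgroup.orderOf_dvd_natCard _ (show y ∈ π.ker from e))
  obtain ⟨g, hg⟩ := fact_conj _ h3 hne
  refine ⟨(MulAut.conj g).toMonoidHom.comp π, (MulAut.conj g).surjective.comp hπ, ?_, hg⟩
  ext k
  show g * π k * g⁻¹ = 1 ↔ π k = 1
  exact conj_eq_one_iff

/-- The centraliser of a normal subgroup meets every coset of the order three subgroup only trivially. -/
theorem eq_bot_of_centralizer {x : G} (h : SC x) {S : Subgroup G} [S.Normal] (hS : ¬ 3 ∣ Nat.card S)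
    (hC : 3 ∣ Nat.card (Subgroup.centralizer (S : Set G))) : S = ⊥ := by
  haveI := Fact.mk Nat.prime_three
  obtain ⟨⟨y, hy⟩, hyo⟩ := exists_prime_orderOf_dvd_card' (G := Subgroup.centralizer (S : Set G)) 3 hC
  rw [Subgroup.orderOf_mk] at hyo
  have hsc : SC y := by
    obtain ⟨g, hg | hg⟩ := h.exists_conj hyo
    · exact hg ▸ h.conj g
    · exact hg ▸ h.inv.conj g
  refine (Subgroup.eq_bot_iff_forall S).2 fun s hs => hsc.fix_trivial hS hs ?_
  rw [← Subgroup.mem_centralizer_iff.1 hy s hs, mul_inv_cancel_right]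

theorem dvd_card_of_not_le {S C : Subgroup G} [S.Normal] [C.Normal] [IsSimpleGroup (G ⧸ S)]
    (hCS : ¬ C ≤ S) : Nat.card (G ⧸ S) ∣ Nat.card C := by
  have htop : C.map (QuotientGroup.mk' S) = ⊤ := by
    refine ((inferInstance : C.Normal).map _ (QuotientGroup.mk'_surjective S)).eq_bot_or_eq_top.resolve_left ?_
    rwa [Subgroup.map_eq_bot_iff, QuotientGroup.ker_mk']
  have := Subgroup.card_map_dvd (H := C) (QuotientGroup.mk' S)
  rwa [htop, Subgroup.card_top] at this

/-- A simple quotient containing an invariant `q`-element forces the kernel to be a `q`-group. -/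
theorem kernel_sylow {x : G} (h : SC x) {S : Subgroup G} [S.Normal] (hS : ¬ 3 ∣ Nat.card S)
    [IsSimpleGroup (G ⧸ S)] {P : Subgroup G} (hP : InvThree x P) (hSP : S ≤ P) {q : ℕ} [Fact q.Prime]
    (hq : q ∣ S.relIndex P) {r : ℕ} (hr : r.Prime) (hrq : r ≠ q) : ¬ r ∣ Nat.card S := by
  intro hrS
  haveI := Fact.mk hr
  haveI : Group.IsNilpotent P := h.nilpotent hP
  haveI : Group.IsNilpotent S := Group.nilpotent_of_mulEquiv (Subgroup.subgroupOfEquivOfLe hSP)
  obtain ⟨R⟩ : Nonempty (Sylow r S) := inferInstance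
  haveI : (R : Subgroup S).Normal := inferInstance
  haveI := Sylow.characteristic_of_normal R inferInstance
  set Sr := (R : Subgroup S).map S.subtype with hSr
  haveI : Sr.Normal := ConjAct.normal_of_characteristic_of_normal
  have hSrle : Sr ≤ S := Subgroup.map_subtype_le _
  have hSr3 : ¬ 3 ∣ Nat.card Sr := fun h3 => hS (h3.trans (Subgroup.card_dvd_of_le hSrle))
  -- a `q`-element outside `S`
  obtain ⟨T⟩ : Nonempty (Sylow q P) := inferInstance
  have hTS : ¬ (T : Subgroup P).map P.subtype ≤ S := by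
    intro hle
    have h1 : Nat.card T ∣ Nat.card S := by
      rw [← Subgroup.card_map_of_injective (f := P.subtype) P.subtype_injective]
      exact Subgroup.card_dvd_of_le hle
    have h2 : Nat.card S * S.relIndex P = Nat.card P := by
      rw [← Subgroup.relIndex_bot_left, Subgroup.relIndex_mul_relIndex _ _ _ bot_le hSP, Subgroup.relIndex_bot_left]
    obtain ⟨k, hk⟩ := IsPGroup.iff_card.1 T.2
    have h3 : q ^ (k + 1) ∣ Nat.card P := by
      rw [← h2, pow_succ]; exact mul_dvd_mul (hk ▸ h1) hq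
    have := T.pow_dvd_card_of_pow_dvd_card h3
    rw [hk] at this
    exact absurd (Nat.le_of_dvd (pow_pos (Fact.out : q.Prime).pos _) this)
      (not_le.2 (Nat.pow_lt_pow_right (Fact.out : q.Prime).one_lt (Nat.lt_succ_self k)))
  obtain ⟨_, ⟨u, hu, rfl⟩, huS⟩ := SetLike.not_le_iff_exists.1 hTS
  have huc : u.1 ∈ Subgroup.centralizer (Sr : Set G) := by
    refine Subgroup.mem_centralizer_iff.2 fun s hs => ?_
    obtain ⟨s', hs', rfl⟩ := hs
    have hsP : (s' : G) ∈ P := hSP s'.2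
    have hR' : ∃ R' : Sylow r P, (⟨s', hsP⟩ : P) ∈ (R' : Subgroup P) := by
      have h1 : IsPGroup r (Subgroup.zpowers (⟨s', hsP⟩ : P)) := by
        obtain ⟨k, hk⟩ := (IsPGroup.iff_orderOf.1 R.2) ⟨s', hs'⟩
        refine IsPGroup.of_card (n := k) ?_
        rw [Nat.card_zpowers, Subgroup.orderOf_mk, ← hk, ← Subgroup.orderOf_coe, ← Subgroup.orderOf_coe]
      obtain ⟨R', hR'⟩ := h1.exists_le_sylow
      exact ⟨R', hR' (Subgroup.mem_zpowers _)⟩
    obtain ⟨R', hs''⟩ := hR'
    have hdis : Disjoint (R' : Subgroup P) (T : Subgroup P) := IsPGroup.disjoint_of_ne r q hrq _ _ R'.2 T.2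
    have hnR : (R' : Subgroup P).Normal := inferInstance
    have hnT : (T : Subgroup P).Normal := inferInstance
    exact congrArg Subtype.val (Subgroup.commute_of_normal_of_disjoint _ _ hnR hnT hdis _ _ hs'' hu).eq
  have hnle : ¬ Subgroup.centralizer (Sr : Set G) ≤ S := fun hle => huS (hle huc)
  have h3Q : 3 ∣ Nat.card (G ⧸ S) := (h.quotient hS).1 ▸ orderOf_dvd_natCard _
  have hbot := eq_bot_of_centralizer h hSr3 (h3Q.trans (dvd_card_of_not_le hnle))
  have hRbot : Nat.card R = 1 := by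
    rw [← Subgroup.card_map_of_injective (f := S.subtype) S.subtype_injective, ← hSr, hbot, Subgroup.card_bot]
  have := R.dvd_card_of_dvd_card hrS
  rw [hRbot] at this
  exact hr.one_lt.ne' (Nat.dvd_one.1 this)

/-- The kernel of a map onto `A₅` is elementary abelian of exponent two. -/
theorem ker_elementary {x : G} (h : SC x) {S : Subgroup G} [S.Normal] (hS : ¬ 3 ∣ Nat.card S)
    (e : G ⧸ S ≃* A5) : IsMulCommutative S ∧ ∀ s ∈ S, s ^ 2 = 1 := by
  haveI hA5 : IsSimpleGroup A5 := alternatingGroup.isSimpleGroup_five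
  haveI : Nontrivial (G ⧸ S) := e.toEquiv.nontrivial
  haveI : IsSimpleGroup (G ⧸ S) :=
    IsSimpleGroup.isSimpleGroup_of_surjective e.symm.toMonoidHom e.symm.surjective
  obtain ⟨π, hπ, hker, hy⟩ := exists_normalised h (e.toMonoidHom.comp (QuotientGroup.mk' S))
    (e.surjective.comp (QuotientGroup.mk'_surjective S)) (by
      rw [show (e.toMonoidHom.comp (QuotientGroup.mk' S)).ker = S by ext g; simp]; exact hS)
  have hker' : π.ker = S := hker.trans (by ext g; simp)
  obtain ⟨w, hw, hw1⟩ := fact_exists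
  obtain ⟨P, hP, hSP, hmem⟩ := exists_preimage h hy hπ (by rw [hker']; exact hS) hw
  rw [hker'] at hSP
  obtain ⟨u, hu⟩ := hπ w
  have huP : u ∈ P := (hmem u).1 (by rw [hu]; simp [four])
  have huS : u ∉ S := fun h' => hw1 (by rw [← hu]; exact (hker'.symm ▸ h' : u ∈ π.ker))
  have hu2 : u * u ∈ S := hker' ▸ (show u * u ∈ π.ker by
    rw [MonoidHom.mem_ker, map_mul, hu]; exact fact_sq w hw)
  -- abelian
  have habel : ∀ a ∈ S, ∀ b ∈ S, a * b = b * a := by
    let A : Subgroup G :=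
      { carrier := {g | ∀ s ∈ S, ∀ b ∈ S, Commute (g * s * g⁻¹ * s⁻¹) b}
        one_mem' := fun s _ b _ => by simp
        mul_mem' := fun {g k} hg hk s hs b hb => by
          have hs' : k * s * k⁻¹ ∈ S := Subgroup.Normal.conj_mem inferInstance s hs k
          have h1 := hg _ hs' b hb
          have h2 := hk s hs b hb
          rw [show g * k * s * (g * k)⁻¹ * s⁻¹ =
            (g * (k * s * k⁻¹) * g⁻¹ * (k * s * k⁻¹)⁻¹) * (k * s * k⁻¹ * s⁻¹) by group]
          exact h1.mul_left h2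
        inv_mem' := fun {g} hg s hs b hb => by
          have hs' : g⁻¹ * s * g⁻¹⁻¹ ∈ S := Subgroup.Normal.conj_mem inferInstance s hs g⁻¹
          have h1 := (hg _ hs' b hb).inv_left
          rwa [show (g * (g⁻¹ * s * g⁻¹⁻¹) * g⁻¹ * (g⁻¹ * s * g⁻¹⁻¹)⁻¹)⁻¹ = g⁻¹ * s * g⁻¹⁻¹ * s⁻¹ by group] at h1 }
    haveI hAn : A.Normal := ⟨fun g hg c s hs b hb => by
      have hs' : c⁻¹ * s * c⁻¹⁻¹ ∈ S := Subgroup.Normal.conj_mem inferInstance s hs c⁻¹
      have hb' : c⁻¹ * b * c⁻¹⁻¹ ∈ S := Subgroup.Normal.conj_mem inferInstance b hb c⁻¹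
      have h1 := (hg _ hs' _ hb').map (MulAut.conj c).toMonoidHom
      simpa [mul_assoc] using h1⟩
    have huA : u ∈ A := fun s hs b hb => h.class_two hP huP (hSP hs) (hSP hb)
    have h3 : 3 ∣ Nat.card A := ((h.quotient hS).1 ▸ orderOf_dvd_natCard _).trans
      (dvd_card_of_not_le fun hle => huS (hle huA))
    haveI := Fact.mk Nat.prime_three
    obtain ⟨⟨y, hyA⟩, hyo⟩ := exists_prime_orderOf_dvd_card' (G := A) 3 h3
    rw [Subgroup.orderOf_mk] at hyo
    have hsc : SC y := by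
      obtain ⟨g, hg | hg⟩ := h.exists_conj hyo
      · exact hg ▸ h.conj g
      · exact hg ▸ h.inv.conj g
    have hinv : InvThree y S := ⟨fun k hk => Subgroup.Normal.conj_mem inferInstance k hk y, hS⟩
    intro a ha b hb
    obtain ⟨n, hn, e'⟩ := hsc.conj_surj hinv ha
    have h1 := hyA n⁻¹ (S.inv_mem hn) b hb
    have hb' : n⁻¹ * b * n⁻¹⁻¹ ∈ S := Subgroup.Normal.conj_mem inferInstance b hb n⁻¹
    have h2 := (hyA n⁻¹ (S.inv_mem hn) _ hb').map (MulAut.conj n).toMonoidHom
    have e2 : n * (y * n⁻¹ * y⁻¹ * n⁻¹⁻¹) * n⁻¹ = a := by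
      calc _ = n * y * n⁻¹ * y⁻¹ := by group
        _ = a := by rw [e']; group
    simp only [MulEquiv.coe_toMonoidHom, MulAut.conj_apply] at h2
    rw [e2, show n * (n⁻¹ * b * n⁻¹⁻¹) * n⁻¹ = b by group] at h2
    exact h2.eq
  refine ⟨⟨⟨fun a b => Subtype.ext (habel a a.2 b b.2)⟩⟩, fun s hs => ?_⟩
  -- exponent two
  let C : Subgroup G := Subgroup.centralizer {v | ∃ b ∈ S, b ^ 2 = v}
  haveI hCn : C.Normal := ⟨fun g hg c => Subgroup.mem_centralizer_iff.2 fun v ⟨b, hb, hbv⟩ => by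
    have h1 := Subgroup.mem_centralizer_iff.1 hg (c⁻¹ * v * c)
      ⟨c⁻¹ * b * c⁻¹⁻¹, Subgroup.Normal.conj_mem inferInstance b hb c⁻¹, by rw [conj_pow, hbv, inv_inv]⟩
    calc v * (c * g * c⁻¹) = c * ((c⁻¹ * v * c) * g) * c⁻¹ := by group
      _ = c * (g * (c⁻¹ * v * c)) * c⁻¹ := by rw [h1]
      _ = c * g * c⁻¹ * v := by group⟩
  have huC : u ∈ C := by
    refine Subgroup.mem_centralizer_iff.2 fun v ⟨b, hb, hbv⟩ => ?_
    subst hbv
    set d := u * b * u⁻¹ * b⁻¹ with hd
    have hdu : Commute d u := h.class_two hP huP (hSP hb) huP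
    have hdS : d ∈ S := S.mul_mem (Subgroup.Normal.conj_mem inferInstance b hb u) (S.inv_mem hb)
    have h1 : u * b * u⁻¹ = d * b := by rw [hd]; group
    have h2 : d * d = 1 := by
      have h3 : u * (u * b * u⁻¹) * u⁻¹ = b := by
        calc u * (u * b * u⁻¹) * u⁻¹ = (u * u) * b * (u * u)⁻¹ := by group
          _ = b := by rw [habel _ hu2 _ hb, mul_inv_cancel_right]
      have h4 : u * (d * b) * u⁻¹ = d * (d * b) := by
        calc u * (d * b) * u⁻¹ = (u * d * u⁻¹) * (u * b * u⁻¹) := by group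
          _ = d * (d * b) := by rw [← hdu.eq, mul_inv_cancel_right, h1]
      rw [h1, h4, ← mul_assoc, mul_eq_right] at h3
      exact h3
    have h5 : u * b ^ 2 * u⁻¹ = b ^ 2 := by
      calc u * b ^ 2 * u⁻¹ = (u * b * u⁻¹) * (u * b * u⁻¹) := by rw [pow_two]; group
        _ = d * (b * d) * b := by rw [h1]; group
        _ = b ^ 2 := by rw [habel b hb d hdS, ← mul_assoc, h2, one_mul, pow_two]
    exact (mul_inv_eq_iff_eq_mul.1 h5).symm
  have h3 : 3 ∣ Nat.card C := ((h.quotient hS).1 ▸ orderOf_dvd_natCard _).trans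
    (dvd_card_of_not_le fun hle => huS (hle huC))
  haveI := Fact.mk Nat.prime_three
  obtain ⟨⟨y, hyC⟩, hyo⟩ := exists_prime_orderOf_dvd_card' (G := C) 3 h3
  rw [Subgroup.orderOf_mk] at hyo
  have hsc : SC y := by
    obtain ⟨g, hg | hg⟩ := h.exists_conj hyo
    · exact hg ▸ h.conj g
    · exact hg ▸ h.inv.conj g
  refine hsc.fix_trivial hS (S.pow_mem hs 2) ?_
  rw [← Subgroup.mem_centralizer_iff.1 hyC (s ^ 2) ⟨s, hs, rfl⟩, mul_inv_cancel_right]

end Cfsg.Lib.Recog.SelfThree
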